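import Mathlib

/-!
# Arithmetic for groups with few Sylow subgroups of prime order
-/

set_option autoImplicit false

namespace Cfsg.Agent.Lib.Brauer43

variable {p n : ℕ}

/-- `n` is not of the form `F(p,u,h)` of Brauer's theorem. -/
def NoF (p n : ℕ) : Prop :=
  ∀ u h : ℕ, 0 < u → 0 < h → n * (u + 1) ≠ h * u * p + u ^ 2 + u + h

theorem noF_of_small (hn : 2 * n ≤ p + 2) : NoF p n := by
  intro u h hu hh e
  have h1 : 1 * (u * p + 1) ≤ h * (u * p + 1) := Nat.mul_le_mul_right _ hh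
  have h2 : 2 * n * (u + 1) ≤ (p + 2) * (u + 1) := Nat.mul_le_mul_right _ hn
  have h3 : 1 * p ≤ u * p := Nat.mul_le_mul_right _ hu
  have h4 : 1 * u ≤ u * u := Nat.mul_le_mul_right _ hu
  nlinarith

/-- A divisor `r p + 1` of `(p - 1) (1 + n p)`. -/
theorem deg_plus (hp : 3 ≤ p) (hn1 : 1 ≤ n) (hF : NoF p n) {f r : ℕ} (hf : f = r * p + 1)
    (hdvd : f ∣ (p - 1) * (1 + n * p)) : r = 0 ∨ r = n := by
  obtain ⟨g, hg⟩ := hdvd
  obtain ⟨q, rfl⟩ : ∃ q, p = q + 1 := ⟨p - 1, by omega⟩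
  rw [Nat.add_sub_cancel] at hg
  have hg' : (q : ℤ) * (1 + n * ((q : ℤ) + 1)) = (f : ℤ) * g := by exact_mod_cast hg
  have hf' : (f : ℤ) = r * ((q : ℤ) + 1) + 1 := by exact_mod_cast hf
  have hq : (2 : ℤ) ≤ q := by omega
  have hn1' : (1 : ℤ) ≤ n := by exact_mod_cast hn1
  -- the cofactor is `-1` modulo `p`, so at least `p - 1`
  have hgq : (q : ℤ) ≤ g := by
    have hd : ((q : ℤ) + 1) ∣ (g : ℤ) + 1 :=
      ⟨(q : ℤ) * n + 1 - r * g, by rw [hf'] at hg'; linear_combination -hg'⟩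
    have := Int.le_of_dvd (by omega) hd
    linarith
  have hrn : r ≤ n := by
    by_contra hh
    have h' : (n : ℤ) + 1 ≤ r := by exact_mod_cast (not_le.1 hh)
    have h1 : (f : ℤ) * q ≤ (f : ℤ) * g := mul_le_mul_of_nonneg_left hgq (by omega)
    rw [← hg', hf'] at h1
    have h2 := mul_le_mul_of_nonneg_left h'
      (show (0 : ℤ) ≤ (q : ℤ) * ((q : ℤ) + 1) by positivity)
    nlinarith
  rcases Nat.eq_zero_or_pos r with h0 | h0
  · exact Or.inl h0
  refine Or.inr (by_contra fun hne => ?_)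
  have hlt : (r : ℤ) < n := by exact_mod_cast lt_of_le_of_ne hrn hne
  have hd : (f : ℤ) ∣ ((r : ℤ) + 1) * ((n : ℤ) - r) := by
    have e : ((r : ℤ) + 1) * ((n : ℤ) - r) = (r : ℤ) ^ 2 * ((q : ℤ) * (1 + n * ((q : ℤ) + 1))) -
        (f : ℤ) * (n * ((f : ℤ) - 1 - r) + (r - n)) := by rw [hf']; ring
    rw [e, hg']
    exact dvd_sub (dvd_mul_of_dvd_right (dvd_mul_right _ _) _) (dvd_mul_right _ _)
  obtain ⟨k, hk⟩ := hd
  have hr0 : (0 : ℤ) ≤ r := Int.natCast_nonneg r
  have hk0 : 0 < k := by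
    by_contra hh
    nlinarith
  obtain ⟨k', rfl⟩ := Int.eq_ofNat_of_zero_le hk0.le
  refine hF r k' h0 (by exact_mod_cast hk0) ?_
  rw [hf'] at hk
  have : (n : ℤ) * (r + 1) = k' * r * ((q : ℤ) + 1) + r ^ 2 + r + k' := by linear_combination hk
  exact_mod_cast this

/-- A divisor `u p - 1` of `(p - 1) (1 + n p)`  is one of two numbers. -/
theorem deg_minus_or (hp : 3 ≤ p) (hn1 : 1 ≤ n) (hF : NoF p n) {f u : ℕ} (hf : f + 1 = u * p)
    (hdvd : f ∣ (p - 1) * (1 + n * p)) : u = 1 ∨ f = (p - 1) * (1 + n * p) := by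
  obtain ⟨g, hg⟩ := hdvd
  -- the cofactor is `1` modulo `p`
  obtain ⟨j, hj⟩ : ∃ j, g = j * p + 1 := by
    have h1 : ((f * g + g : ℕ) : ZMod p) = 0 := by
      rw [show f * g + g = (f + 1) * g by ring, hf, Nat.cast_mul, Nat.cast_mul, ZMod.natCast_self,
        mul_zero, zero_mul]
    rw [← hg, Nat.cast_add, Nat.cast_mul, Nat.cast_add, Nat.cast_mul, ZMod.natCast_self,
      mul_zero, Nat.cast_one, add_zero, mul_one, Nat.cast_sub (by omega), ZMod.natCast_self,
      Nat.cast_one, zero_sub, neg_add_eq_zero] at h1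
    have h2 : g % p = 1 := by
      have h3 : ((1 : ℕ) : ZMod p) = g := by rw [Nat.cast_one]; exact h1
      rw [ZMod.natCast_eq_natCast_iff'] at h3
      rw [← h3, Nat.mod_eq_of_lt (by omega)]
    exact ⟨g / p, by rw [← h2]; exact (Nat.div_add_mod' g p).symm⟩
  rcases deg_plus hp hn1 hF hj ⟨f, hg.trans (mul_comm f g)⟩ with rfl | rfl
  · right
    rw [zero_mul, zero_add] at hj
    rw [hj, mul_one] at hg
    exact hg.symm
  · left
    have hf1 : f = p - 1 := by
      rw [hj, add_comm (j * p) 1] at hg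
      exact (Nat.eq_of_mul_eq_mul_right (by omega) hg).symm
    have : u * p = 1 * p := by omega
    exact Nat.eq_of_mul_eq_mul_right (by omega) this

/-- A divisor `u p - 1` of `(p - 1) (1 + n p)` with small square. -/
theorem deg_minus (hp : 3 ≤ p) (hn1 : 1 ≤ n) (hF : NoF p n) {f u : ℕ} (hf : f + 1 = u * p)
    (hdvd : f ∣ (p - 1) * (1 + n * p)) (hsq : f * f ≤ p * (p - 1) * (1 + n * p)) : u = 1 := by
  refine (deg_minus_or hp hn1 hF hf hdvd).resolve_right fun hg => ?_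
  rw [mul_assoc, ← hg] at hsq
  have hf0 : 0 < f := hg ▸ Nat.mul_pos (by omega) (by omega)
  have hfp : f ≤ p := Nat.le_of_mul_le_mul_right hsq hf0
  have h5 : (p - 1) * (1 + 1 * p) ≤ (p - 1) * (1 + n * p) :=
    Nat.mul_le_mul_left _ (by have := Nat.mul_le_mul_right p hn1; omega)
  have h6 : 2 * (1 + 1 * p) ≤ (p - 1) * (1 + 1 * p) := Nat.mul_le_mul_right _ (by omega)
  omega

/-- The case of one exceptional character. -/
theorem even_of_one_exceptional (hp : p % 2 = 1) {x y : ℕ} (hxy : x + y = p - 1)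
    (h : 1 + (x : ℤ) * (1 + n * p) - y * ((p : ℤ) - 1) = 0) : Even n := by
  have hp1 : 1 ≤ p := by omega
  have hxy' : (x : ℤ) + y = p - 1 := by
    have : ((x + y : ℕ) : ℤ) = ((p - 1 : ℕ) : ℤ) := by rw [hxy]
    push_cast [Nat.cast_sub hp1] at this
    exact this
  have e : (p : ℤ) * (1 + x * n - y) = 0 := by linear_combination h - hxy'
  have e' : (y : ℤ) = x * n + 1 := by
    rcases mul_eq_zero.1 e with h' | h'
    · omega
    · linarith
  have e2 : x * (n + 1) + 2 = p := by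
    have : (x : ℤ) * (n + 1) + 2 = p := by linarith
    exact_mod_cast this
  rcases Nat.even_or_odd n with hev | ⟨j, rfl⟩
  · exact hev
  · exfalso
    have : x * (2 * j + 1 + 1) = 2 * (x * (j + 1)) := by ring
    omega

end Cfsg.Agent.Lib.Brauer43
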