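import Cfsg.Agent.Lib.Brauer43.Arith
import Cfsg.Agent.Lib.DefectOne.Principal
import Cfsg.Agent.Lib.DefectOne.GaloisConj
import Cfsg.Agent.Lib.Char.SelfCentGroup
import Cfsg.Agent.Lib.Involution.IndexTwo
import Cfsg.Agent.Lib.SmallSimple.Basic
import Cfsg.Agent.Lib.Block.Exist

/-!
# Perfect groups with a self-centralising Sylow subgroup of prime order
-/

set_option autoImplicit false
set_option linter.unusedSectionVars false
set_option linter.style.haveILetI false

namespace Cfsg.Agent.Lib.Brauer43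

open Cfsg Cfsg.Agent.Lib Cfsg.Agent.Lib.Char Cfsg.Agent.Lib.DefectOne
open Cfsg.Agent.Lib.Char.UC (C N)
open scoped commutatorElement

universe u

variable {p : ℕ} [hp : Fact p.Prime] {G : Type u} [Group G] [Fintype G]

/-- `G` is perfect, `P` has order `p` and is its own centraliser, and there are `1 + n p` Sylow
`p`-subgroups with `2 n ≤ p + 2`. -/
structure Hyp (P : Sylow p G) (n : ℕ) : Prop where
  perf : commutator G = ⊤
  card_P : Nat.card (P : Subgroup G) = p
  self : C P = (P : Subgroup G)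
  card_syl : Nat.card (Sylow p G) = 1 + n * p
  noF : NoF p n

/-- The inertial index. -/
noncomputable def eN (P : Sylow p G) : ℕ := (C P).relIndex (N P)

/-- The centraliser of `c` inside the normaliser of `P`. -/
noncomputable def Cc (P : Sylow p G) (c : G) : Subgroup G :=
  Subgroup.centralizer ({c} : Set G) ⊓ N P

variable {P : Sylow p G} {n : ℕ}

theorem perfect_hom_trivial (hperf : commutator G = ⊤) {A : Type*} [CommGroup A] (f : G →* A)
    (g : G) : f g = 1 := by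
  have h := Abelianization.commutator_subset_ker f
  rw [hperf] at h
  exact MonoidHom.mem_ker.1 (h (Subgroup.mem_top g))

theorem perfect_no_index_two (hperf : commutator G = ⊤) (H : Subgroup G) : H.index ≠ 2 := by
  intro h
  haveI : H.Normal := Subgroup.normal_of_index_eq_two h
  haveI : IsCyclic (G ⧸ H) := isCyclic_of_prime_card (p := 2) (by rw [← Subgroup.index_eq_card, h])
  letI : CommGroup (G ⧸ H) := IsCyclic.commGroup
  have : H = ⊤ := eq_top_iff.2 fun g _ =>
    (QuotientGroup.eq_one_iff g).1 (perfect_hom_trivial hperf (QuotientGroup.mk' H) g)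
  rw [this, Subgroup.index_top] at h
  omega

namespace Hyp

theorem orderOf_mem (H : Hyp P n) {x : G} (hx : x ∈ (P : Subgroup G)) (hx1 : x ≠ 1) :
    orderOf x = p := by
  have h := orderOf_dvd_natCard (⟨x, hx⟩ : (P : Subgroup G))
  rw [Subgroup.orderOf_mk, H.card_P] at h
  rcases (Nat.dvd_prime hp.out).1 h with h | h
  · exact absurd (orderOf_eq_one_iff.1 h) hx1
  · exact h

theorem zpowers_eq (H : Hyp P n) {x : G} (hx : x ∈ (P : Subgroup G)) (hx1 : x ≠ 1) :
    Subgroup.zpowers x = (P : Subgroup G) :=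
  Subgroup.eq_of_le_of_card_ge (Subgroup.zpowers_le.2 hx)
    (by rw [Nat.card_zpowers, H.orderOf_mem hx hx1, H.card_P])

theorem centralizer_eq (H : Hyp P n) {x : G} (hx : x ∈ (P : Subgroup G)) (hx1 : x ≠ 1) :
    Subgroup.centralizer ({x} : Set G) = (P : Subgroup G) := by
  rw [star_of_card H.card_P x hx hx1]
  exact H.self

theorem exists_gen (H : Hyp P n) : ∃ x ∈ (P : Subgroup G), x ≠ 1 ∧ orderOf x = p ∧
    Subgroup.centralizer ({x} : Set G) = Subgroup.zpowers x := by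
  obtain ⟨x, hx, hx1⟩ := exists_mem_ne_one (P := P) H.card_P
  exact ⟨x, hx, hx1, H.orderOf_mem hx hx1, by rw [H.centralizer_eq hx hx1, H.zpowers_eq hx hx1]⟩

theorem nontrivial (H : Hyp P n) : Nontrivial G := by
  obtain ⟨x, -, hx1, -⟩ := H.exists_gen
  exact nontrivial_of_ne x 1 hx1

theorem not_N_le_C (H : Hyp P n) : ¬ N P ≤ C P := by
  intro h
  set f := MonoidHom.transferSylow P h
  have hc : f.ker.IsComplement' (P : Subgroup G) := MonoidHom.ker_transferSylow_isComplement' P h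
  haveI : IsCyclic (P : Subgroup G) := isCyclic_of_prime_card H.card_P
  letI : CommGroup (P : Subgroup G) := IsCyclic.commGroup
  obtain ⟨x, hx, hx1, -⟩ := H.exists_gen
  have hk : f.ker = ⊤ := by
    have := Abelianization.commutator_subset_ker f
    rw [H.perf] at this
    exact eq_top_iff.2 this
  exact hx1 (Subgroup.disjoint_def.1 hc.disjoint (hk ▸ Subgroup.mem_top x) hx)

theorem p_ne_two (H : Hyp P n) : p ≠ 2 := by
  intro h2
  refine H.not_N_le_C fun g hg => ?_
  obtain ⟨x, hx, hx1, -⟩ := H.exists_gen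
  have hall : ∀ y ∈ (P : Subgroup G), y ≠ 1 → y = x := by
    intro y hy hy1
    obtain ⟨a, b, hab, huniv⟩ := Nat.card_eq_two_iff.1 (H.card_P.trans h2)
    have h3 : ∀ z : (P : Subgroup G), z = a ∨ z = b := fun z => by
      have := Set.mem_univ z
      rw [← huniv] at this
      simpa using this
    rcases h3 ⟨x, hx⟩ with e1 | e1 <;> rcases h3 ⟨y, hy⟩ with e2 | e2 <;>
      rcases h3 1 with e3 | e3
    all_goals first
      | exact congrArg Subtype.val (e2.trans e1.symm)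
      | exact absurd (congrArg Subtype.val (e1.trans e3.symm)) hx1
      | exact absurd (congrArg Subtype.val (e2.trans e3.symm)) hy1
  show g ∈ Subgroup.centralizer ((P : Subgroup G) : Set G)
  refine Subgroup.mem_centralizer_iff.2 fun y hy => ?_
  rcases eq_or_ne y 1 with rfl | hy1
  · rw [one_mul, mul_one]
  · have h := hall _ ((Subgroup.mem_normalizer_iff.1 hg y).1 hy) (fun e => hy1 (conj_eq_one_iff.1 e))
    rw [← hall y hy hy1] at h
    exact (mul_inv_eq_iff_eq_mul.1 h).symm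

theorem p_odd (H : Hyp P n) : p % 2 = 1 :=
  Nat.odd_iff.1 (hp.out.odd_of_ne_two H.p_ne_two)

theorem p_three (H : Hyp P n) : 3 ≤ p := by
  have := hp.out.two_le
  have := H.p_ne_two
  omega

theorem P_le_N (_H : Hyp P n) : (P : Subgroup G) ≤ N P := Subgroup.le_normalizer

theorem card_N (H : Hyp P n) : Nat.card (N P) = p * eN P := by
  have h := ((C P).subgroupOf (N P)).card_mul_index
  rw [Nat.card_congr (Subgroup.subgroupOfEquivOfLe (UC.C_le_N P)).toEquiv, H.self, H.card_P] at h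
  rw [eN, H.self, Subgroup.relIndex]
  exact h.symm

theorem index_N (H : Hyp P n) : (N P).index = 1 + n * p := by
  rw [← H.card_syl, SmallSimple.card_sylow_eq_index P]

theorem card_G (H : Hyp P n) : Nat.card G = p * eN P * (1 + n * p) := by
  rw [← H.card_N, ← H.index_N, Subgroup.card_mul_index]

theorem e_dvd (H : Hyp P n) : eN P ∣ p - 1 := by
  obtain ⟨M, hM⟩ := Block.exists_isPModular (p := p) hp.out
  haveI := hM.2.1
  exact (principal_structure hM H.card_P).1

theorem two_le_e (H : Hyp P n) : 2 ≤ eN P := by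
  have h0 : eN P ≠ 0 := Subgroup.index_ne_zero_of_finite
  have h1 : eN P ≠ 1 := fun h => H.not_N_le_C (Subgroup.relIndex_eq_one.1 h)
  omega

theorem e_lt (H : Hyp P n) : eN P < p := by
  have := H.p_three
  have := Nat.le_of_dvd (by omega) H.e_dvd
  omega

theorem sq_not_dvd (H : Hyp P n) : ¬ p ^ 2 ∣ Nat.card G := by
  rw [H.card_G, pow_two, mul_assoc]
  intro h
  have h' := Nat.dvd_of_mul_dvd_mul_left hp.out.pos h
  rcases hp.out.dvd_mul.1 h' with h' | h'
  · have := Nat.le_of_dvd (by have := H.two_le_e; omega) h'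
    have := H.e_lt
    omega
  · rw [Nat.dvd_add_left (dvd_mul_left p n), Nat.dvd_one] at h'
    exact hp.out.ne_one h'

theorem one_le_n (H : Hyp P n) : 1 ≤ n := by
  by_contra h
  haveI : Subsingleton (Sylow p G) :=
    (Nat.card_eq_one_iff_unique.1 (by rw [H.card_syl, show n = 0 by omega]; simp)).1
  haveI : (P : Subgroup G).Normal := Sylow.normal_of_subsingleton P
  obtain ⟨x, hx, hx1, hxo, hxc⟩ := H.exists_gen
  have hle := SC.commutator_le_of_dvd hxo hxc (P : Subgroup G) (by rw [H.card_P])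
  rw [H.perf] at hle
  have h1 : p * eN P * (1 + n * p) = p := by
    rw [← H.card_G, ← Subgroup.card_top, ← top_le_iff.1 hle, H.card_P]
  have := H.two_le_e
  rw [show n = 0 by omega] at h1
  simp only [Nat.zero_mul, Nat.add_zero, mul_one] at h1
  have h2 := Nat.eq_of_mul_eq_mul_left hp.out.pos (h1.trans (mul_one p).symm)
  omega

theorem e_mul (H : Hyp P n) : eN P * ((p - 1) / eN P) = p - 1 := Nat.mul_div_cancel' H.e_dvd

theorem smul_eq_self_iff {g : G} {Q : Sylow p G} :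
    g • Q = Q ↔ g ∈ Subgroup.normalizer ((Q : Subgroup G) : Set G) :=
  Sylow.smul_eq_iff_mem_normalizer

/-- A `p`-element fixes only its own Sylow subgroup. -/
theorem eq_of_smul (H : Hyp P n) {x : G} (hx : x ∈ (P : Subgroup G)) (hx1 : x ≠ 1)
    {Q : Sylow p G} (h : x • Q = Q) : Q = P := by
  have hz : IsPGroup p (Subgroup.zpowers x) :=
    IsPGroup.of_card (n := 1) (by rw [Nat.card_zpowers, H.orderOf_mem hx hx1, pow_one])
  have hle : Subgroup.zpowers x ≤ (Q : Subgroup G) := by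
    intro y hy
    have hn : y ∈ Subgroup.normalizer ((Q : Subgroup G) : Set G) :=
      Subgroup.zpowers_le.2 (smul_eq_self_iff.1 h) hy
    have hm : y ∈ Subgroup.zpowers x ⊓ Subgroup.normalizer (Q : Set G) := ⟨hy, hn⟩
    rw [IsPGroup.inf_normalizer_sylow hz] at hm
    exact hm.2
  rw [H.zpowers_eq hx hx1] at hle
  exact Sylow.ext (P.3 Q.2 hle)

theorem regular_of_mem_N (H : Hyp P n) {g : G} (hg : g ∈ N P) (hgP : g ∉ (P : Subgroup G)) :
    ¬ p ∣ orderOf g := by
  intro hd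
  set x := g ^ (orderOf g / p) with hxdef
  have ho : orderOf x = p := orderOf_pow_orderOf_div (orderOf_pos g).ne' hd
  have hz : IsPGroup p (Subgroup.zpowers x) :=
    IsPGroup.of_card (n := 1) (by rw [Nat.card_zpowers, ho, pow_one])
  have hm : x ∈ Subgroup.zpowers x ⊓ Subgroup.normalizer (P : Set G) :=
    ⟨Subgroup.mem_zpowers x, pow_mem hg _⟩
  rw [IsPGroup.inf_normalizer_sylow hz] at hm
  have hx1 : x ≠ 1 := fun e => by rw [e, orderOf_one] at ho; exact hp.out.ne_one ho.symm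
  refine hgP ?_
  rw [← H.centralizer_eq hm.2 hx1, Subgroup.mem_centralizer_singleton_iff]
  exact (Commute.self_pow g _).eq

theorem exists_conj_singular (H : Hyp P n) {g : G} (hg : p ∣ orderOf g) :
    ∃ h : G, h * g * h⁻¹ ∈ (P : Subgroup G) ∧ h * g * h⁻¹ ≠ 1 := by
  obtain ⟨h, x, y, hx, hy, -, e⟩ := exists_singular_conj H.card_P hg
  have hyP : (y : G) ∈ (P : Subgroup G) := by rw [← H.self]; exact y.2
  have hy1 : (y : G) = 1 := by
    by_contra h1
    exact hy (by rw [← Subgroup.orderOf_coe, H.orderOf_mem hyP h1])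
  rw [hy1, mul_one] at e
  exact ⟨h, by rw [e]; exact x.2, by rw [e]; exact fun e1 => hx (Subtype.ext e1)⟩

theorem commutator_mem (H : Hyp P n) {a b : G} (ha : a ∈ N P) (hb : b ∈ N P) :
    a * b * a⁻¹ * b⁻¹ ∈ (P : Subgroup G) := by
  obtain ⟨x, hx, hx1, -, -⟩ := H.exists_gen
  have hconj : ∀ g ∈ N P, ∃ k : ℤ, g * x * g⁻¹ = x ^ k := fun g hg => by
    have := (Subgroup.mem_normalizer_iff.1 hg x).1 hx
    rw [← H.zpowers_eq hx hx1] at this
    obtain ⟨k, hk⟩ := Subgroup.mem_zpowers_iff.1 this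
    exact ⟨k, hk.symm⟩
  obtain ⟨k, hk⟩ := hconj a ha
  obtain ⟨l, hl⟩ := hconj b hb
  have e1 : a * b * x * (a * b)⁻¹ = (b * a) * x * (b * a)⁻¹ := by
    calc a * b * x * (a * b)⁻¹ = a * (b * x * b⁻¹) * a⁻¹ := by group
      _ = (x ^ k) ^ l := by rw [hl, ← conj_zpow, hk]
      _ = (x ^ l) ^ k := by rw [← zpow_mul, ← zpow_mul, mul_comm]
      _ = b * (a * x * a⁻¹) * b⁻¹ := by rw [hk, ← conj_zpow, hl]
      _ = (b * a) * x * (b * a)⁻¹ := by group
  rw [← H.centralizer_eq hx hx1, Subgroup.mem_centralizer_singleton_iff]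
  calc a * b * a⁻¹ * b⁻¹ * x
      = a * b * a⁻¹ * b⁻¹ * ((b * a) * ((b * a)⁻¹ * x * (b * a)) * (b * a)⁻¹) := by group
    _ = (a * b * ((b * a)⁻¹ * x * (b * a)) * (a * b)⁻¹) * (a * b * a⁻¹ * b⁻¹) := by group
    _ = x * (a * b * a⁻¹ * b⁻¹) := by
        congr 1
        have h2 : a⁻¹ * b⁻¹ * x * (a⁻¹ * b⁻¹)⁻¹ = b⁻¹ * a⁻¹ * x * (b⁻¹ * a⁻¹)⁻¹ := by
          obtain ⟨k', hk'⟩ := hconj _ (inv_mem ha)
          obtain ⟨l', hl'⟩ := hconj _ (inv_mem hb)
          calc a⁻¹ * b⁻¹ * x * (a⁻¹ * b⁻¹)⁻¹ = a⁻¹ * (b⁻¹ * x * b⁻¹⁻¹) * a⁻¹⁻¹ := by group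
            _ = (x ^ k') ^ l' := by rw [hl', ← conj_zpow, hk']
            _ = (x ^ l') ^ k' := by rw [← zpow_mul, ← zpow_mul, mul_comm]
            _ = b⁻¹ * (a⁻¹ * x * a⁻¹⁻¹) * b⁻¹⁻¹ := by rw [hk', ← conj_zpow, hl']
            _ = b⁻¹ * a⁻¹ * x * (b⁻¹ * a⁻¹)⁻¹ := by group
        calc a * b * ((b * a)⁻¹ * x * (b * a)) * (a * b)⁻¹
            = a * b * (a⁻¹ * b⁻¹ * x * (a⁻¹ * b⁻¹)⁻¹) * (a * b)⁻¹ := by group
          _ = a * b * (b⁻¹ * a⁻¹ * x * (b⁻¹ * a⁻¹)⁻¹) * (a * b)⁻¹ := by rw [h2]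
          _ = x := by group

/-- Outside `P`, a coset of `P` in the normaliser is one class under `P`. -/
theorem coset_conj (H : Hyp P n) {c y : G} (hc : c ∈ N P) (hcP : c ∉ (P : Subgroup G))
    (hy : y ∈ (P : Subgroup G)) : ∃ x ∈ (P : Subgroup G), x * c * x⁻¹ = c * y := by
  let f : ↥(P : Subgroup G) → ↥(P : Subgroup G) := fun x => ⟨c⁻¹ * ((x : G) * c * (x : G)⁻¹), by
    have h := (Subgroup.mem_normalizer_iff.1 (inv_mem hc) (x : G)).1 x.2
    rw [show c⁻¹ * ((x : G) * c * (x : G)⁻¹) = c⁻¹ * (x : G) * c⁻¹⁻¹ * (x : G)⁻¹ by group]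
    exact mul_mem h (inv_mem x.2)⟩
  have hinj : Function.Injective f := by
    intro a b e
    have e' : (a : G) * c * (a : G)⁻¹ = (b : G) * c * (b : G)⁻¹ :=
      mul_left_cancel (congrArg Subtype.val e)
    by_contra hne
    have hne' : (b : G)⁻¹ * a ≠ 1 := fun h => hne (Subtype.ext (inv_mul_eq_one.1 h).symm)
    refine hcP ?_
    rw [← H.centralizer_eq (mul_mem (inv_mem b.2) a.2) hne', Subgroup.mem_centralizer_singleton_iff]
    calc c * ((b : G)⁻¹ * a) = (b : G)⁻¹ * ((b : G) * c * (b : G)⁻¹) * a := by group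
      _ = (b : G)⁻¹ * ((a : G) * c * (a : G)⁻¹) * a := by rw [e']
      _ = (b : G)⁻¹ * a * c := by group
  obtain ⟨x, hx⟩ := (Finite.injective_iff_surjective.1 hinj) ⟨y, hy⟩
  refine ⟨x, x.2, ?_⟩
  rw [← show c⁻¹ * ((x : G) * c * (x : G)⁻¹) = y from congrArg Subtype.val hx]
  group

theorem le_e (H : Hyp P n) {K : Subgroup G} (hK : K ≤ N P) (hKP : K ⊓ (P : Subgroup G) = ⊥) :
    Nat.card K ≤ eN P ∧ (Nat.card K = eN P → ∀ g ∈ N P, ∃ k ∈ K, k⁻¹ * g ∈ (P : Subgroup G)) := by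
  let f : ↥K × ↥(P : Subgroup G) → ↥(N P) := fun z =>
    ⟨(z.1 : G) * (z.2 : G), mul_mem (hK z.1.2) (H.P_le_N z.2.2)⟩
  have hf : Function.Injective f := fun a b e => by
    have e' : (a.1 : G) * (a.2 : G) = (b.1 : G) * (b.2 : G) := congrArg Subtype.val e
    have h1 : (b.1 : G)⁻¹ * a.1 = (b.2 : G) * (a.2 : G)⁻¹ := by
      calc (b.1 : G)⁻¹ * a.1 = (b.1 : G)⁻¹ * ((a.1 : G) * a.2) * (a.2 : G)⁻¹ := by group
        _ = _ := by rw [e']; group
    have h2 : (b.1 : G)⁻¹ * a.1 ∈ K ⊓ (P : Subgroup G) :=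
      Subgroup.mem_inf.2 ⟨mul_mem (inv_mem b.1.2) a.1.2, by rw [h1]; exact mul_mem b.2.2 (inv_mem a.2.2)⟩
    rw [hKP, Subgroup.mem_bot] at h2
    have e1 : a.1 = b.1 := Subtype.ext (inv_mul_eq_one.1 h2).symm
    refine Prod.ext e1 (Subtype.ext ?_)
    rw [e1] at e'
    exact mul_left_cancel e'
  have hcard := Nat.card_le_card_of_injective f hf
  rw [Nat.card_prod, H.card_P, H.card_N, mul_comm p] at hcard
  refine ⟨Nat.le_of_mul_le_mul_right hcard hp.out.pos, fun he g hg => ?_⟩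
  obtain ⟨⟨k, y⟩, e⟩ := (hf.bijective_of_nat_card_le (by
    rw [Nat.card_prod, H.card_P, H.card_N, he, mul_comm])).2 ⟨g, hg⟩
  refine ⟨k, k.2, ?_⟩
  rw [← show (k : G) * (y : G) = g from congrArg Subtype.val e, inv_mul_cancel_left]
  exact y.2

theorem comm_of_inf (H : Hyp P n) {K : Subgroup G} (hK : K ≤ N P)
    (hKP : K ⊓ (P : Subgroup G) = ⊥) {a b : G} (ha : a ∈ K) (hb : b ∈ K) : a * b = b * a := by
  have h : a * b * a⁻¹ * b⁻¹ ∈ K ⊓ (P : Subgroup G) :=
    Subgroup.mem_inf.2 ⟨mul_mem (mul_mem (mul_mem ha hb) (inv_mem ha)) (inv_mem hb),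
      H.commutator_mem (hK ha) (hK hb)⟩
  rw [hKP, Subgroup.mem_bot] at h
  calc a * b = a * b * a⁻¹ * b⁻¹ * (b * a) := by group
    _ = b * a := by rw [h, one_mul]

theorem le_Cc (H : Hyp P n) {K : Subgroup G} (hK : K ≤ N P) (hKP : K ⊓ (P : Subgroup G) = ⊥)
    {c : G} (hc : c ∈ K) : K ≤ Cc P c := fun _ ha =>
  ⟨Subgroup.mem_centralizer_singleton_iff.2 (H.comm_of_inf hK hKP ha hc), hK ha⟩

theorem mem_Cc_self {c : G} (hc : c ∈ N P) : c ∈ Cc P c :=
  ⟨Subgroup.mem_centralizer_singleton_iff.2 rfl, hc⟩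

theorem Cc_inf (H : Hyp P n) {c : G} (hcP : c ∉ (P : Subgroup G)) :
    Cc P c ⊓ (P : Subgroup G) = ⊥ := by
  rw [eq_bot_iff]
  rintro x ⟨⟨hxc, -⟩, hxP⟩
  rw [Subgroup.mem_bot]
  by_contra hx1
  refine hcP ?_
  rw [← H.centralizer_eq hxP hx1]
  exact Subgroup.mem_centralizer_singleton_iff.2 (Subgroup.mem_centralizer_singleton_iff.1 hxc).symm

theorem card_Cc_le (H : Hyp P n) {c : G} (hcP : c ∉ (P : Subgroup G)) :
    Nat.card (Cc P c) ≤ eN P := (H.le_e inf_le_right (H.Cc_inf hcP)).1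

theorem isCyclic_of_inf (H : Hyp P n) {K : Subgroup G} (hK : K ≤ N P)
    (hKP : K ⊓ (P : Subgroup G) = ⊥) : IsCyclic K := by
  haveI : IsCyclic (P : Subgroup G) := isCyclic_of_prime_card H.card_P
  let ι : MulAut (P : Subgroup G) ≃* (ZMod p)ˣ :=
    (IsCyclic.mulAutMulEquiv (P : Subgroup G)).trans
      (Units.mapEquiv (ZMod.ringEquivCongr H.card_P).toMulEquiv)
  refine isCyclic_of_injective
    (ι.toMonoidHom.comp ((P : Subgroup G).normalizerMonoidHom.comp (Subgroup.inclusion hK))) ?_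
  rw [← MonoidHom.ker_eq_bot_iff, eq_bot_iff]
  intro k hk
  rw [MonoidHom.mem_ker, MonoidHom.comp_apply, MulEquiv.coe_toMonoidHom, MulEquiv.map_eq_one_iff,
    MonoidHom.comp_apply, ← MonoidHom.mem_ker, Subgroup.normalizerMonoidHom_ker,
    Subgroup.mem_subgroupOf, Subgroup.coe_inclusion] at hk
  rw [Subgroup.mem_bot]
  have hk' : (k : G) ∈ K ⊓ (P : Subgroup G) := ⟨k.2, by rw [← H.self]; exact hk⟩
  rw [hKP, Subgroup.mem_bot] at hk'
  exact Subtype.ext hk'

theorem involution_inverts (H : Hyp P n) {c : G} (hc : c ∈ N P) (hcP : c ∉ (P : Subgroup G))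
    (hc2 : c * c = 1) {x : G} (hx : x ∈ (P : Subgroup G)) : c * x * c⁻¹ = x⁻¹ := by
  have hci : c⁻¹ = c := inv_eq_of_mul_eq_one_right hc2
  have hy : c * x * c⁻¹ ∈ (P : Subgroup G) := (Subgroup.mem_normalizer_iff.1 hc x).1 hx
  haveI : IsCyclic (P : Subgroup G) := isCyclic_of_prime_card H.card_P
  letI : CommGroup (P : Subgroup G) := IsCyclic.commGroup
  have hcm : x * (c * x * c⁻¹) = c * x * c⁻¹ * x :=
    congrArg Subtype.val (mul_comm (⟨x, hx⟩ : (P : Subgroup G)) ⟨_, hy⟩)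
  by_contra hne
  have hne' : x * (c * x * c⁻¹) ≠ 1 := fun e => hne (eq_inv_of_mul_eq_one_right e)
  refine hcP ?_
  rw [← H.centralizer_eq (mul_mem hx hy) hne', Subgroup.mem_centralizer_singleton_iff]
  symm
  calc x * (c * x * c⁻¹) * c = c * x * c⁻¹ * x * c := by rw [hcm]
    _ = c * (x * (c * x * c⁻¹)) := by rw [hci]; simp only [mul_assoc, hc2, mul_one]

theorem involution_unique (H : Hyp P n) {K : Subgroup G} (hK : K ≤ N P)
    (hKP : K ⊓ (P : Subgroup G) = ⊥) {c d : G} (hc : c ∈ K) (hd : d ∈ K) (hc1 : c ≠ 1)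
    (hd1 : d ≠ 1) (hc2 : c * c = 1) (hd2 : d * d = 1) : c = d := by
  have hnot : ∀ a ∈ K, a ≠ 1 → a ∉ (P : Subgroup G) := fun a ha ha1 haP => by
    have : a ∈ K ⊓ (P : Subgroup G) := ⟨ha, haP⟩
    rw [hKP, Subgroup.mem_bot] at this
    exact ha1 this
  obtain ⟨x, hx, hx1, -, -⟩ := H.exists_gen
  have hm : c * d ∈ K ⊓ (P : Subgroup G) := Subgroup.mem_inf.2 ⟨mul_mem hc hd, by
    rw [← H.centralizer_eq hx hx1, Subgroup.mem_centralizer_singleton_iff]
    have e1 := H.involution_inverts (hK hd) (hnot d hd hd1) hd2 hx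
    have e2 := H.involution_inverts (hK hc) (hnot c hc hc1) hc2 (inv_mem hx)
    rw [inv_inv] at e2
    calc c * d * x = c * (d * x * d⁻¹) * c⁻¹ * (c * d) := by group
      _ = x * (c * d) := by rw [e1, e2]⟩
  rw [hKP, Subgroup.mem_bot] at hm
  exact (eq_inv_of_mul_eq_one_left hm).trans (inv_eq_of_mul_eq_one_right hd2)

/-- An even inertial index forces evenly many Sylow subgroups. -/
theorem even_card_sylow (H : Hyp P n) (he : Even (eN P)) : Even (1 + n * p) := by
  by_contra hodd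
  haveI : Fact (Nat.Prime 2) := ⟨Nat.prime_two⟩
  obtain ⟨T₀⟩ : Nonempty (Sylow 2 (N P)) := inferInstance
  set T : Subgroup G := (T₀ : Subgroup (N P)).map (N P).subtype with hTdef
  have hTcard : Nat.card T = 2 ^ (Nat.card G).factorization 2 := by
    rw [hTdef, Subgroup.card_subtype, T₀.card_eq_multiplicity, H.card_G, H.card_N]
    congr 1
    rw [Nat.factorization_mul (mul_ne_zero hp.out.ne_zero (by have := H.two_le_e; omega))
      (by omega : 1 + n * p ≠ 0), Finsupp.add_apply,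
      Nat.factorization_eq_zero_of_not_dvd (fun h => hodd (even_iff_two_dvd.2 h)), add_zero]
  have hTN : T ≤ N P := Subgroup.map_subtype_le _
  have hTP : T ⊓ (P : Subgroup G) = ⊥ := Subgroup.inf_eq_bot_of_coprime (by
    rw [hTcard, H.card_P]
    exact ((Nat.coprime_primes Nat.prime_two hp.out).2 H.p_ne_two.symm).pow_left _)
  have hcyc : IsCyclic ((Sylow.ofCard T hTcard : Sylow 2 G) : Subgroup G) := by
    rw [Sylow.coe_ofCard]
    exact H.isCyclic_of_inf hTN hTP
  have heven : Even (Nat.card G) := by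
    rw [H.card_G]; exact (he.mul_left p).mul_right _
  obtain ⟨K, hK⟩ := Involution.exists_index_two_of_cyclic_sylow heven _ hcyc
  exact perfect_no_index_two H.perf K hK

/-- The group is simple. -/
theorem isSimple (H : Hyp P n) : IsSimpleGroup G := by
  obtain ⟨x, hx, hx1, hxo, hxc⟩ := H.exists_gen
  haveI := H.nontrivial
  refine ⟨fun S hS => ?_⟩
  by_contra hne
  push Not at hne
  obtain ⟨hb, ht⟩ := hne
  haveI := hS
  have hS' : ¬ p ∣ Nat.card S := fun hd => by
    have := SC.commutator_le_of_dvd hxo hxc S hd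
    rw [H.perf] at this
    exact ht (top_le_iff.1 this)
  have hmod := SC.card_mod_eq_one hxo hxc S hS'
  have hdvd := SC.card_dvd_index_normalizer hxo hxc S hS'
  rw [H.zpowers_eq hx hx1, H.index_N] at hdvd
  obtain ⟨k, hk⟩ := hdvd
  have hkmod : k % p = 1 := by
    have h1 : (1 + n * p) % p = 1 := by
      rw [Nat.add_mul_mod_self_right, Nat.mod_eq_of_lt hp.out.one_lt]
    rw [hk, Nat.mul_mod, hmod, one_mul, Nat.mod_mod] at h1
    exact h1
  set a := Nat.card S / p with hadef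
  set b := k / p with hbdef
  have ha : Nat.card S = p * a + 1 := by rw [← hmod, hadef, Nat.div_add_mod]
  have hb' : k = p * b + 1 := by rw [← hkmod, hbdef, Nat.div_add_mod]
  clear_value a b
  have hn : a * b * p + a + b = n := by
    rw [ha, hb'] at hk
    refine Nat.eq_of_mul_eq_mul_right hp.out.pos ?_
    linarith
  have hp3 := H.p_three
  have ha0 : a ≠ 0 := fun h => hb (Subgroup.card_eq_one.1 (by rw [ha, h]; simp))
  have hb0 : b = 0 := by
    by_contra hb0
    refine H.noF a (b * (a + 1)) (by omega) (Nat.mul_pos (by omega) (by omega)) ?_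
    rw [← hn]; ring
  have hSA : Nat.card S = 1 + n * p := by rw [hk, hb', hb0]; simp
  -- then `S` and the normaliser generate `G`
  have hsup : N P ⊔ S = ⊤ := by
    refine Subgroup.eq_top_of_le_card _ ?_
    have hinf : N P ⊓ S = ⊥ := by
      rw [eq_bot_iff]
      rintro s ⟨hsN, hsS⟩
      rw [Subgroup.mem_bot]
      refine SC.eq_one_of_commute hxo hxc S hS' hsS ?_
      have h1 : s * x * s⁻¹ * x⁻¹ ∈ S ⊓ (P : Subgroup G) := by
        refine Subgroup.mem_inf.2 ⟨?_, mul_mem ((Subgroup.mem_normalizer_iff.1 hsN x).1 hx) (inv_mem hx)⟩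
        rw [show s * x * s⁻¹ * x⁻¹ = s * (x * s⁻¹ * x⁻¹) by group]
        exact mul_mem hsS (hS.conj_mem _ (inv_mem hsS) x)
      rw [Subgroup.inf_eq_bot_of_coprime (by
        rw [H.card_P]; exact ((hp.out.coprime_iff_not_dvd).2 hS').symm), Subgroup.mem_bot] at h1
      calc s * x = s * x * s⁻¹ * x⁻¹ * (x * s) := by group
        _ = x * s := by rw [h1, one_mul]
    let f : ↥(N P) × ↥S → ↥(N P ⊔ S) := fun z => ⟨(z.1 : G) * (z.2 : G),
      Subgroup.mul_mem_sup z.1.2 z.2.2⟩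
    have hf : Function.Injective f := fun a b e => by
      have e' : (a.1 : G) * (a.2 : G) = (b.1 : G) * (b.2 : G) := congrArg Subtype.val e
      have h1 : (b.1 : G)⁻¹ * a.1 = (b.2 : G) * (a.2 : G)⁻¹ := by
        calc (b.1 : G)⁻¹ * a.1 = (b.1 : G)⁻¹ * ((a.1 : G) * a.2) * (a.2 : G)⁻¹ := by group
          _ = _ := by rw [e']; group
      have h2 : (b.1 : G)⁻¹ * a.1 ∈ N P ⊓ S :=
        Subgroup.mem_inf.2 ⟨mul_mem (inv_mem b.1.2) a.1.2, by rw [h1]; exact mul_mem b.2.2 (inv_mem a.2.2)⟩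
      rw [hinf, Subgroup.mem_bot] at h2
      have e1 : a.1 = b.1 := Subtype.ext (inv_mul_eq_one.1 h2).symm
      refine Prod.ext e1 (Subtype.ext ?_)
      rw [e1] at e'
      exact mul_left_cancel e'
    refine le_trans (le_of_eq ?_) (Nat.card_le_card_of_injective f hf)
    rw [Nat.card_prod, H.card_N, hSA, H.card_G]
  -- so `S ⊔ P` is normal
  set T := S ⊔ (P : Subgroup G) with hTdef
  haveI hT : T.Normal := by
    refine Subgroup.normalizer_eq_top_iff.1 (top_le_iff.1 (hsup ▸ sup_le ?_ ?_))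
    · refine le_trans (le_inf (Subgroup.normalizer_eq_top_iff.2 hS ▸ le_top) le_rfl) ?_
      exact Subgroup.normalizer_inf_normalizer_le_normalizer_sup S (P : Subgroup G)
    · exact le_sup_left.trans Subgroup.le_normalizer
  have hTtop : T = ⊤ := by
    have hd : p ∣ Nat.card T := H.card_P ▸ Subgroup.card_dvd_of_le le_sup_right
    have := SC.commutator_le_of_dvd hxo hxc T hd
    rw [H.perf] at this
    exact top_le_iff.1 this
  haveI : IsCyclic (G ⧸ S) := by
    refine ⟨⟨QuotientGroup.mk' S x, fun q => ?_⟩⟩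
    obtain ⟨g, rfl⟩ := QuotientGroup.mk'_surjective S q
    obtain ⟨s, hs, y, hy, rfl⟩ := Subgroup.mem_sup_of_normal_left.1
      (hTtop ▸ Subgroup.mem_top g : g ∈ T)
    rw [← H.zpowers_eq hx hx1] at hy
    obtain ⟨j, rfl⟩ := Subgroup.mem_zpowers_iff.1 hy
    refine Subgroup.mem_zpowers_iff.2 ⟨j, ?_⟩
    rw [map_mul, show QuotientGroup.mk' S s = 1 from (QuotientGroup.eq_one_iff s).2 hs, one_mul,
      map_zpow]
  letI : CommGroup (G ⧸ S) := IsCyclic.commGroup
  exact ht (eq_top_iff.2 fun g _ =>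
    (QuotientGroup.eq_one_iff g).1 (perfect_hom_trivial H.perf (QuotientGroup.mk' S) g))

end Hyp

end Cfsg.Agent.Lib.Brauer43
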