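import Cfsg.Agent.Lib.Brauer43.Basic
import Cfsg.Agent.Lib.Char.Ito
import Cfsg.Agent.Lib.CharTools.ClassMult

/-!
# Characters on the normaliser of a self-centralising subgroup of prime order
-/

set_option autoImplicit false
set_option linter.unusedSectionVars false
set_option linter.style.haveILetI false

namespace Cfsg.Agent.Lib.Brauer43

open Cfsg Cfsg.Agent.Lib Cfsg.Agent.Lib.Char Cfsg.Agent.Lib.DefectOne
open Cfsg.Agent.Lib.Char.UC (C N)
open scoped ComplexConjugate Classical

universe u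

section General

variable {G : Type u} [Group G] [Fintype G]

/-- Translating a class sum. -/
theorem sum_mul_right {χ : G → ℂ} (h : IsIrrCharacter G χ) {f : G → ℂ} (hf : IsClassFunction G f)
    (z : G) : ∑ x : G, f x * χ (x * z) = (∑ x : G, f x * χ x) * χ z / χ 1 := by
  have h1 := irr_degree_ne_zero h
  obtain ⟨n, ρ, hρ, rfl⟩ := h
  obtain ⟨c, hc, hcn⟩ := avgOp_irreducible ρ hf
  have ht : LinearMap.trace ℂ (Fin n → ℂ) (avgOp ρ f * ρ z) =
      ∑ x : G, f x * ρ.character (x * z) := by
    simp [avgOp, Finset.sum_mul, map_sum, Representation.character]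
  rw [← ht, ← hcn, hc, smul_mul_assoc, one_mul, map_smul, smul_eq_mul]
  rw [Representation.char_one] at h1 ⊢
  change c * ρ.character z = _
  field_simp

/-- Translating a product of two class sums. -/
theorem sum_pair_mul_right {χ : G → ℂ} (h : IsIrrCharacter G χ) {f g : G → ℂ}
    (hf : IsClassFunction G f) (hg : IsClassFunction G g) (z : G) :
    ∑ x : G, ∑ y : G, f x * g y * χ (x * y * z) =
      (∑ x : G, f x * χ x) * (∑ y : G, g y * χ y) * χ z / (χ 1 * χ 1) := by
  have h1 := irr_degree_ne_zero h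
  obtain ⟨n, ρ, hρ, rfl⟩ := h
  obtain ⟨c, hc, hcn⟩ := avgOp_irreducible ρ hf
  obtain ⟨d, hd, hdn⟩ := avgOp_irreducible ρ hg
  have ht : LinearMap.trace ℂ (Fin n → ℂ) (avgOp ρ f * avgOp ρ g * ρ z) =
      ∑ x : G, ∑ y : G, f x * g y * ρ.character (x * y * z) := by
    simp [avgOp, Finset.sum_mul, Finset.mul_sum, map_sum, Representation.character, smul_smul]
    rw [Finset.sum_comm]
    exact Finset.sum_congr rfl fun x _ => Finset.sum_congr rfl fun y _ => by ring
  rw [← ht, ← hcn, ← hdn, hc, hd]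
  simp only [smul_mul_assoc, one_mul, map_smul, smul_eq_mul]
  rw [Representation.char_one] at h1 ⊢
  change c * (d * ρ.character z) = _
  field_simp

end General

variable {p : ℕ} [hp : Fact p.Prime] {G : Type u} [Group G] [Fintype G] {P : Sylow p G} {n : ℕ}

open scoped Classical in
/-- The sum of the values on `P`. -/
noncomputable def sumP (P : Sylow p G) (f : G → ℂ) : ℂ :=
  ∑ x ∈ Finset.univ.filter (· ∈ (P : Subgroup G)), f x

/-- The restriction to the normaliser. -/
noncomputable def res (P : Sylow p G) (f : G → ℂ) : N P → ℂ := fun h => f h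

/-- The linear characters of the normaliser which are trivial on `P`. -/
def IsLin (θ : IrrCharacter (N P)) : Prop :=
  (θ : N P → ℂ) 1 = 1 ∧ ∀ y : N P, (y : G) ∈ (P : Subgroup G) → (θ : N P → ℂ) y = 1

namespace Hyp

theorem sumP_split (H : Hyp P n) (f : G → ℂ) :
    sumP P f = f 1 + ∑ x ∈ (Finset.univ.filter (· ∈ (P : Subgroup G))).erase 1, f x := by
  classical
  rw [sumP, ← Finset.add_sum_erase _ _ (Finset.mem_filter.2 ⟨Finset.mem_univ (1 : G), one_mem _⟩)]

theorem card_filter (H : Hyp P n) [DecidablePred (· ∈ (P : Subgroup G))] :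
    (Finset.univ.filter (· ∈ (P : Subgroup G))).card = p := by
  rw [← Fintype.card_subtype, ← Nat.card_eq_fintype_card]
  exact H.card_P

/-- A constant on the nontrivial elements of `P`. -/
theorem sumP_const (H : Hyp P n) (f : G → ℂ) {s : ℂ}
    (hs : ∀ x ∈ (P : Subgroup G), x ≠ 1 → f x = s) : sumP P f = f 1 + ((p : ℂ) - 1) * s := by
  classical
  rw [H.sumP_split f, Finset.sum_congr rfl fun x hx =>
    hs x (Finset.mem_filter.1 (Finset.mem_of_mem_erase hx)).2 (Finset.ne_of_mem_erase hx),
    Finset.sum_const, Finset.card_erase_of_mem (Finset.mem_filter.2 ⟨Finset.mem_univ _, one_mem _⟩),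
    H.card_filter, nsmul_eq_mul, Nat.cast_sub hp.out.pos, Nat.cast_one]

/-- The sum over `P` is `p` times the multiplicity of the trivial character of `P`. -/
theorem exists_sumP_eq (H : Hyp P n) {χ : G → ℂ} (h : IsCharacter G χ) :
    ∃ m : ℕ, sumP P χ = (p : ℂ) * m := by
  classical
  obtain ⟨m, hm⟩ := CharTools.exists_nat_sum_subgroup h (P : Subgroup G)
  refine ⟨m, ?_⟩
  rw [sumP]
  rw [H.card_P] at hm
  convert hm using 3

theorem normal_P (_H : Hyp P n) : ((P : Subgroup G).subgroupOf (N P)).Normal :=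
  Subgroup.normal_in_normalizer

/-- Irreducible characters of the normaliser with `P` in the kernel are linear. -/
theorem isLin_of_const (H : Hyp P n) {θ : IrrCharacter (N P)}
    (hθ : ∀ y ∈ (P : Subgroup G).subgroupOf (N P), (θ : N P → ℂ) y = (θ : N P → ℂ) 1) :
    IsLin θ := by
  haveI := H.normal_P
  haveI : IsMulCommutative (N P ⧸ (P : Subgroup G).subgroupOf (N P)) := ⟨⟨fun a b => by
    induction a using QuotientGroup.induction_on with | H a =>
    induction b using QuotientGroup.induction_on with | H b =>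
    rw [← QuotientGroup.mk_mul, ← QuotientGroup.mk_mul, QuotientGroup.eq, Subgroup.mem_subgroupOf]
    have e : (((a * b)⁻¹ * (b * a) : N P) : G) =
        (b : G)⁻¹ * (a : G)⁻¹ * (b : G)⁻¹⁻¹ * (a : G)⁻¹⁻¹ := by
      push_cast
      group
    rw [e]
    exact H.commutator_mem (inv_mem b.2) (inv_mem a.2)⟩⟩
  obtain ⟨ψ, hψ, hψe⟩ := exists_irr_deflation θ.2 _ hθ
  obtain ⟨m, τ, hτ, hτ'⟩ := hψ
  have h1 : (θ : N P → ℂ) 1 = 1 := by
    rw [← hψe 1, QuotientGroup.mk_one, ← hτ', Representation.char_one,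
      Representation.IsIrreducible.finrank_eq_one_of_isMulCommutative τ, Nat.cast_one]
  exact ⟨h1, fun y hy => by rw [hθ y hy, h1]⟩

open scoped Classical in
/-- Outside `P` a character of `G` agrees on the normaliser with its `P`-fixed part. -/
theorem fixed_decomp (H : Hyp P n) {χ : G → ℂ} (hχ : IsCharacter G χ) :
    ∃ m : IrrCharacter (N P) → ℕ,
      (∀ θ : IrrCharacter (N P), classInner (res P χ) (θ : N P → ℂ) = m θ) ∧
      sumP P χ = (p : ℂ) * ((∑ θ ∈ Finset.univ.filter IsLin, m θ : ℕ) : ℂ) ∧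
      ∀ c : N P, (c : G) ∉ (P : Subgroup G) →
        χ c = ∑ θ ∈ Finset.univ.filter IsLin, (m θ : ℂ) * (θ : N P → ℂ) c := by
  classical
  haveI := H.normal_P
  set P' := (P : Subgroup G).subgroupOf (N P) with hP'
  have hres : IsCharacter (N P) (res P χ) := isCharacter_restrict hχ (N P)
  choose m hm using fun θ : IrrCharacter (N P) =>
    classInner_natCast hres (isCharacter_of_isIrr θ.2)
  have hdec : ∀ z : N P, χ z = ∑ θ : IrrCharacter (N P), (m θ : ℂ) * (θ : N P → ℂ) z := fun z => by
    have h := congrFun (eq_sum_classInner_smul (isClassFunction_of_isCharacter hres)) z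
    simp only [Finset.sum_apply, Pi.smul_apply, smul_eq_mul, hm] at h
    exact h
  have hcard : Nat.card P' = p := by
    rw [hP', Nat.card_congr (Subgroup.subgroupOfEquivOfLe H.P_le_N).toEquiv, H.card_P]
  -- the sums of the irreducible characters over the coset
  have hcos : ∀ (θ : IrrCharacter (N P)) (z : N P),
      ∑ y ∈ Finset.univ.filter (· ∈ P'), (θ : N P → ℂ) (y * z) =
        if IsLin θ then (p : ℂ) * (θ : N P → ℂ) z else 0 := by
    intro θ z
    have hf : IsClassFunction (N P) (fun y => if y ∈ P' then (1 : ℂ) else 0) := fun y x => by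
      show (if x * y * x⁻¹ ∈ P' then (1 : ℂ) else 0) = if y ∈ P' then 1 else 0
      exact if_congr ⟨fun h => by
        simpa [mul_assoc] using (inferInstance : P'.Normal).conj_mem _ h x⁻¹,
        fun h => (inferInstance : P'.Normal).conj_mem y h x⟩ rfl rfl
    have h := sum_mul_right θ.2 hf z
    simp only [ite_mul, one_mul, zero_mul, ← Finset.sum_filter] at h
    rw [h]
    by_cases hl : IsLin θ
    · have hv : ∀ y ∈ Finset.univ.filter (· ∈ P'), (θ : N P → ℂ) y = 1 := fun y hy =>
        hl.2 y (Finset.mem_filter.1 hy).2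
      rw [if_pos hl, Finset.sum_congr rfl hv,
        Finset.sum_const, ← Fintype.card_subtype, ← Nat.card_eq_fintype_card, hl.1, nsmul_eq_mul,
        mul_one, div_one]
      congr 2
    · rw [if_neg hl]
      rcases CharTools.sum_normal_eq_zero_or_const θ.2 P' with h0 | h0
      · exact absurd (H.isLin_of_const h0) hl
      · rw [h0, zero_mul, zero_div]
  have hsum : ∀ z : N P, ∑ y ∈ Finset.univ.filter (· ∈ P'), χ ((y * z : N P) : G) =
      (p : ℂ) * ∑ θ ∈ Finset.univ.filter IsLin, (m θ : ℂ) * (θ : N P → ℂ) z := by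
    intro z
    rw [Finset.sum_congr rfl fun y _ => hdec (y * z), Finset.sum_comm, Finset.mul_sum,
      Finset.sum_filter (s := Finset.univ) (p := IsLin)]
    refine Finset.sum_congr rfl fun θ _ => ?_
    rw [← Finset.mul_sum, hcos θ z]
    split_ifs <;> ring
  refine ⟨m, hm, ?_, fun c hc => ?_⟩
  · have h := hsum 1
    simp only [mul_one] at h
    rw [Finset.sum_congr rfl (s₁ := Finset.univ.filter IsLin) (g := fun θ => (m θ : ℂ))
      (fun θ hθ => by rw [(Finset.mem_filter.1 hθ).2.1, mul_one])] at h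
    rw [Nat.cast_sum, ← h, sumP]
    symm
    refine Finset.sum_bij (fun (y : N P) _ => (y : G)) ?_ ?_ ?_ ?_
    · intro y hy
      exact Finset.mem_filter.2 ⟨Finset.mem_univ _, (Finset.mem_filter.1 hy).2⟩
    · intro a _ b _ e
      exact Subtype.ext e
    · intro x hx
      exact ⟨⟨x, H.P_le_N (Finset.mem_filter.1 hx).2⟩,
        Finset.mem_filter.2 ⟨Finset.mem_univ _, (Finset.mem_filter.1 hx).2⟩, rfl⟩
    · intro y _
      rfl
  · have h := hsum c
    rw [Finset.sum_congr rfl (g := fun _ => χ c) (fun y hy => ?_), Finset.sum_const,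
      ← Fintype.card_subtype, ← Nat.card_eq_fintype_card, nsmul_eq_mul,
      show Nat.card {y : N P // y ∈ P'} = p from hcard] at h
    · exact mul_left_cancel₀ (Nat.cast_ne_zero.2 hp.out.ne_zero) h
    · have hy' : (y : G) ∈ (P : Subgroup G) := (Finset.mem_filter.1 hy).2
      obtain ⟨x, -, hx⟩ := H.coset_conj c.2 hc
        (show (c : G)⁻¹ * (y : G) * (c : G) ∈ (P : Subgroup G) by
          have := (Subgroup.mem_normalizer_iff.1 (inv_mem c.2) (y : G)).1 hy'
          rwa [inv_inv] at this)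
      rw [Subgroup.coe_mul, show (y : G) * (c : G) = (c : G) * ((c : G)⁻¹ * y * c) by group, ← hx]
      exact isClassFunction_of_isCharacter hχ c x

/-- No `P`-fixed points: the character vanishes on the rest of the normaliser. -/
theorem eq_zero_of_sumP (H : Hyp P n) {χ : G → ℂ} (hχ : IsCharacter G χ) (hs : sumP P χ = 0)
    {c : G} (hc : c ∈ N P) (hcP : c ∉ (P : Subgroup G)) : χ c = 0 := by
  classical
  obtain ⟨m, -, h1, h2⟩ := H.fixed_decomp hχ
  rw [hs] at h1
  have h3 : (∑ θ ∈ Finset.univ.filter IsLin, m θ) = 0 := by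
    have h4 := (mul_eq_zero.1 h1.symm).resolve_left (Nat.cast_ne_zero.2 hp.out.ne_zero)
    exact_mod_cast h4
  rw [show χ c = χ ((⟨c, hc⟩ : N P) : G) from rfl, h2 ⟨c, hc⟩ hcP]
  refine Finset.sum_eq_zero fun θ hθ => ?_
  rw [(Finset.sum_eq_zero_iff.1 h3) θ hθ, Nat.cast_zero, zero_mul]

/-- `P`-fixed points exist: a linear constituent. -/
theorem exists_lin (H : Hyp P n) {χ : G → ℂ} (hχ : IsCharacter G χ) (hs : sumP P χ ≠ 0) :
    ∃ θ : IrrCharacter (N P), IsLin θ ∧ classInner (res P χ) (θ : N P → ℂ) ≠ 0 := by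
  classical
  obtain ⟨m, hm, h1, -⟩ := H.fixed_decomp hχ
  by_contra hc
  push Not at hc
  refine hs (h1.trans ?_)
  rw [show (∑ θ ∈ Finset.univ.filter IsLin, m θ) = 0 from Finset.sum_eq_zero fun θ hθ => by
    have := hc θ (Finset.mem_filter.1 hθ).2
    rw [hm] at this
    exact_mod_cast this]
  simp

/-- If every `P`-fixed vector is fixed by the normaliser. -/
theorem eq_of_sumP (H : Hyp P n) {χ : G → ℂ} (hχ : IsCharacter G χ) {k : ℕ}
    (hs : sumP P χ = (p : ℂ) * k) (hk : classInner (res P χ) (fun _ => 1) = k)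
    {c : G} (hc : c ∈ N P) (hcP : c ∉ (P : Subgroup G)) : χ c = k := by
  classical
  obtain ⟨m, hm, h1, h2⟩ := H.fixed_decomp hχ
  let one : IrrCharacter (N P) := ⟨fun _ => 1, isIrrCharacter_one⟩
  have hone : one ∈ Finset.univ.filter IsLin :=
    Finset.mem_filter.2 ⟨Finset.mem_univ _, rfl, fun _ _ => rfl⟩
  have hk' : m one = k := by
    have := hm one
    rw [show ((one : IrrCharacter (N P)) : N P → ℂ) = fun _ => 1 from rfl, hk] at this
    exact_mod_cast this.symm
  have h3 : (∑ θ ∈ Finset.univ.filter IsLin, m θ) = k := by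
    have := mul_left_cancel₀ (Nat.cast_ne_zero.2 hp.out.ne_zero) (hs.symm.trans h1)
    exact_mod_cast this.symm
  rw [← Finset.add_sum_erase _ _ hone, hk'] at h3
  rw [show χ c = χ ((⟨c, hc⟩ : N P) : G) from rfl, h2 ⟨c, hc⟩ hcP,
    ← Finset.add_sum_erase _ _ hone, hk', Finset.sum_eq_zero fun θ hθ => by
      rw [(Finset.sum_eq_zero_iff.1 (by omega : ∑ θ ∈ (Finset.univ.filter IsLin).erase one, m θ = 0))
        θ hθ, Nat.cast_zero, zero_mul]]
  simp [one]

end Hyp

end Cfsg.Agent.Lib.Brauer43
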