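import Cfsg.Agent.Lib.Brauer43.Chars
import Cfsg.Agent.Lib.Brauer43.Arith
import Cfsg.Agent.Lib.Char.SmallDegrees
import Cfsg.Agent.Lib.DefectOne.Count

/-!
# The principal block and the degrees of its members
-/

set_option autoImplicit false
set_option linter.unusedSectionVars false
set_option linter.style.haveILetI false

namespace Cfsg.Agent.Lib.Brauer43

open Cfsg Cfsg.Agent.Lib Cfsg.Agent.Lib.Char Cfsg.Agent.Lib.DefectOne
open Cfsg.Agent.Lib.Char.UC (C N)
open scoped ComplexConjugate Classical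

universe u

variable {p : ℕ} [hp : Fact p.Prime] {G : Type u} [Group G] [Fintype G]

/-- The data of the principal block. -/
structure Data (P : Sylow p G) where
  Z : Finset (IrrCharacter G)
  Y : Finset (IrrCharacter G)
  sgn : IrrCharacter G → ℤ
  ε : ℤ
  D : ℕ
  disj : Disjoint Z Y
  cardZ : Z.card = eN P
  cardY : Y.card = (p - 1) / eN P
  eps : ε = 1 ∨ ε = -1
  one_mem : Block.oneIrr G ∈ Z ∪ Y
  sgn_pm : ∀ χ ∈ Z, sgn χ = 1 ∨ sgn χ = -1
  congrZ : ∀ χ ∈ Z, (charDegree (χ : G → ℂ) : ℤ) ≡ sgn χ [ZMOD p]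
  valZ : ∀ χ ∈ Z, ∀ x ∈ (P : Subgroup G), x ≠ 1 → (χ : G → ℂ) x = (sgn χ : ℂ)
  degY : ∀ ψ ∈ Y, charDegree (ψ : G → ℂ) = D
  congrY : (D : ℤ) ≡ ε * (eN P : ℕ) [ZMOD p]
  regY : ∀ ψ ∈ Y, ∀ ψ' ∈ Y, ∀ g : G, ¬ p ∣ orderOf g → (ψ : G → ℂ) g = (ψ' : G → ℂ) g
  rel : ∀ ψ ∈ Y, ∀ g : G, ¬ p ∣ orderOf g →
    (ε : ℂ) * (ψ : G → ℂ) g = ∑ χ ∈ Z, (sgn χ : ℂ) * (χ : G → ℂ) g
  orbit : ∀ ψ ∈ Y, ∀ ψ' ∈ Y, ∃ k, ∃ hk : Adm p G k, powIrr k hk ψ = ψ'
  sumY : ∀ ψ ∈ Y, sumP P (ψ : G → ℂ) = (D : ℂ) - (ε : ℂ) * (eN P : ℕ)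
  outside : ∀ χ, χ ∉ Z → χ ∉ Y → ∀ x ∈ (P : Subgroup G), x ≠ 1 → (χ : G → ℂ) x = 0

variable {P : Sylow p G} {n : ℕ}

namespace Hyp

theorem eq_one_of_degree_one (H : Hyp P n) {χ : IrrCharacter G}
    (h : charDegree (χ : G → ℂ) = 1) : χ = Block.oneIrr G := by
  obtain ⟨l, hl⟩ := exists_hom_of_degree_one (isCharacter_of_isIrr χ.2)
    (by rw [apply_one_eq_charDegree (isCharacter_of_isIrr χ.2), h, Nat.cast_one])
  refine Subtype.ext (funext fun g => ?_)
  rw [hl g, perfect_hom_trivial H.perf l g, Units.val_one, Block.oneIrr_apply]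

theorem nonempty_data (H : Hyp P n) : Nonempty (Data P) := by
  obtain ⟨M, hM⟩ := Block.exists_isPModular (p := p) hp.out
  haveI := hM.2.1
  have hP := H.card_P
  obtain ⟨hediv, Z, Y, sgn, ε, hB, hd, hZ, hY, hε, hZv, hYv, hYr, hrel⟩ := principal_structure hM hP
  set e := (C P).relIndex (N P) with he
  have he' : eN P = e := rfl
  have h2e := H.two_le_e
  have hp3 := H.p_three
  have hdiv : p ∣ Nat.card G := p_dvd_card hP
  have hone : ∀ ψ ∈ Y, (ε : ℤ) * charDegree (ψ : G → ℂ) =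
      ∑ χ ∈ Z, sgn χ * (charDegree (χ : G → ℂ) : ℤ) := by
    intro ψ hψ
    have h := hrel ψ hψ 1 (by rw [orderOf_one]; exact hp.out.not_dvd_one)
    simp only [apply_one_eq_charDegree (isCharacter_of_isIrr ψ.2),
      fun χ : IrrCharacter G => apply_one_eq_charDegree (isCharacter_of_isIrr χ.2)] at h
    exact_mod_cast h
  have hYne : Y.Nonempty := Finset.card_pos.1 (hY ▸
    Nat.div_pos (Nat.le_of_dvd (by omega) hediv) (by omega))
  obtain ⟨ψ₀, hψ₀⟩ := hYne
  have hdeg : ∀ ψ ∈ Y, charDegree (ψ : G → ℂ) = charDegree (ψ₀ : G → ℂ) := by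
    intro ψ hψ
    have h := hYr ψ hψ ψ₀ hψ₀ 1 (by rw [orderOf_one]; exact hp.out.not_dvd_one)
    rw [apply_one_eq_charDegree (isCharacter_of_isIrr ψ.2),
      apply_one_eq_charDegree (isCharacter_of_isIrr ψ₀.2)] at h
    exact_mod_cast h
  have hout : ∀ χ, χ ∉ Z → χ ∉ Y → ∀ x ∈ (P : Subgroup G), x ≠ 1 → (χ : G → ℂ) x = 0 := by
    intro X hXZ hXY x hx hx1
    haveI := Fintype.ofFinite (C P)
    have hCP : ∀ c : C P, (c : G) ∈ (P : Subgroup G) := fun c => by rw [← H.self]; exact c.2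
    have hTh : ∀ θ : Th P, θ = oneTh P := by
      intro θ
      refine Subtype.ext ?_
      by_contra hne
      have h := classInner_irr_ne θ.1.2 (oneTh P).1.2 (fun h => hne (Subtype.ext h))
      rw [show (θ.1 : C P → ℂ) = (θ.1 : C P → ℂ) 1 • ((oneTh P).1 : C P → ℂ) from
        funext fun c => by simpa [oneTh] using θ.2 c (hCP c), classInner_smul_left,
        classInner_irr_self (oneTh P).1.2, mul_one] at h
      exact irr_degree_ne_zero θ.1.2 h
    have hXB : X ∉ principalBlock M G := by rw [hB]; simp [hXZ, hXY]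
    have h := apply_eq_sum_S hP X ⟨x, hx⟩ (y := 1) not_dvd_one'
    rw [OneMemClass.coe_one, mul_one] at h
    rw [h]
    refine Finset.sum_eq_zero fun θ _ => ?_
    rw [hTh θ, S_eq_zero hM hP (oneTh P) (induced_principal hM hP) hXB
      (fun h => hx1 (congrArg Subtype.val h)), zero_mul]
  have hval : ∀ χ ∈ Z, ∀ x ∈ (P : Subgroup G), x ≠ 1 → (χ : G → ℂ) x = (sgn χ : ℂ) := by
    intro χ hχ x hx hx1
    have := (hZv χ hχ).2.2 x hx hx1 1 (one_mem _) (by rw [orderOf_one]; exact hp.out.not_dvd_one)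
    rwa [mul_one] at this
  -- transitivity
  obtain ⟨-, Z', Y', sgn', ε', hB', hd', hZ', hY', -, -, hfix', -, htr', -⟩ :=
    exists_structure_galois hM hP H.sq_not_dvd (oneTh P) Block.isPBlock_principalBlock
      (induced_principal hM hP) (blockDefect_of_induced hM hP (induced_principal hM hP))
  rw [Tgrp_oneTh] at hZ' hY'
  have horbit : ∀ ψ ∈ Y, ∀ ψ' ∈ Y, ∃ k, ∃ hk : Adm p G k, powIrr k hk ψ = ψ' := by
    by_cases ht : 2 ≤ Y.card
    · have hsub : Z ⊆ Z' := by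
        intro χ hχ
        have hmem : χ ∈ principalBlock M G := by rw [hB]; exact Or.inl hχ
        rw [hB'] at hmem
        refine hmem.resolve_right fun hχY => ?_
        have hfix : ∀ k, ∀ hk : Adm p G k, powIrr k hk χ = χ := by
          intro k hk
          refine Subtype.ext (funext fun g => ?_)
          show (χ : G → ℂ) (g ^ k) = _
          by_cases hg : p ∣ orderOf g
          · obtain ⟨h, hmem', hne⟩ := H.exists_conj_singular hg
            have hcf := isClassFunction_of_isIrr χ.2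
            rw [← hcf (g ^ k) h, ← hcf g h, ← conj_pow, hval χ hχ _ hmem' hne,
              hval χ hχ _ (pow_mem hmem' k)]
            intro e1
            have h3 := orderOf_dvd_of_pow_eq_one e1
            rw [H.orderOf_mem hmem' hne] at h3
            exact hp.out.not_dvd_one ((Nat.Coprime.gcd_eq_one hk.1) ▸ Nat.dvd_gcd h3 hdiv)
          · rw [pow_regular hdiv hk hg]
        have hone' : Y' ⊆ {χ} := fun χ' hχ' => by
          obtain ⟨k, hk, e1⟩ := htr' χ hχY χ' hχ'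
          rw [Finset.mem_singleton, ← e1, hfix k hk]
        have := Finset.card_le_card hone'
        rw [hY', ← hY, Finset.card_singleton] at this
        omega
      have hZeq : Z = Z' := Finset.eq_of_subset_of_card_le hsub (by rw [hZ', hZ])
      have hYsub : Y ⊆ Y' := by
        intro ψ hψ
        have hmem : ψ ∈ principalBlock M G := by rw [hB]; exact Or.inr hψ
        rw [hB'] at hmem
        exact hmem.resolve_left fun h => Finset.disjoint_left.1 hd (hZeq ▸ h) hψ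
      exact fun ψ hψ ψ' hψ' => htr' ψ (hYsub hψ) ψ' (hYsub hψ')
    · intro ψ hψ ψ' hψ'
      refine ⟨1, ⟨Nat.coprime_one_left _, rfl⟩, ?_⟩
      rw [← Finset.card_le_one.1 (by omega) ψ hψ ψ' hψ']
      exact Subtype.ext (funext fun g => congrArg _ (pow_one g))
  -- the sums over `P`
  have hinv : ∀ ψ ∈ Y, sumP P (ψ : G → ℂ) = sumP P (ψ₀ : G → ℂ) := by
    intro ψ hψ
    obtain ⟨k, hk, rfl⟩ := horbit ψ₀ hψ₀ ψ hψ
    unfold sumP
    have hinj : Set.InjOn (fun x : G => x ^ k)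
        (Finset.univ.filter (· ∈ (P : Subgroup G)) : Finset G) := by
      intro a ha b hb e1
      have ha' := (Finset.mem_filter.1 ha).2
      have hb' := (Finset.mem_filter.1 hb).2
      have hco : (Nat.card (P : Subgroup G)).Coprime k :=
        Nat.Coprime.coprime_dvd_left (P : Subgroup G).card_subgroup_dvd_card hk.1.symm
      exact congrArg Subtype.val ((powCoprime hco).injective
        (a₁ := ⟨a, ha'⟩) (a₂ := ⟨b, hb'⟩) (Subtype.ext e1))
    have himg : (Finset.univ.filter (· ∈ (P : Subgroup G))).image (fun x : G => x ^ k) =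
        Finset.univ.filter (· ∈ (P : Subgroup G)) := by
      refine Finset.eq_of_subset_of_card_le (fun y hy => ?_) (by rw [Finset.card_image_of_injOn hinj])
      obtain ⟨x, hx, rfl⟩ := Finset.mem_image.1 hy
      exact Finset.mem_filter.2 ⟨Finset.mem_univ _, pow_mem (Finset.mem_filter.1 hx).2 k⟩
    conv_rhs => rw [← himg, Finset.sum_image hinj]
    rfl
  have hsumY : sumP P (ψ₀ : G → ℂ) = (charDegree (ψ₀ : G → ℂ) : ℂ) - (ε : ℂ) * (e : ℕ) := by
    have hd0 : (charDegree (ψ₀ : G → ℂ) : ℂ) ≠ 0 :=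
      Nat.cast_ne_zero.2 (charDegree_pos ψ₀.2).ne'
    set S := Finset.univ.filter (· ∈ (P : Subgroup G)) with hS
    have h1S : (1 : G) ∈ S := Finset.mem_filter.2 ⟨Finset.mem_univ _, one_mem _⟩
    have key : ∑ x ∈ S.erase 1, ∑ χ : IrrCharacter G, (χ : G → ℂ) 1 * (χ : G → ℂ) x = 0 :=
      Finset.sum_eq_zero fun x hx => by
        rw [sum_degree_mul x, if_neg (Finset.ne_of_mem_erase hx)]
    have hsplit : ∀ f : G → ℂ, ∑ x ∈ S.erase 1, f x = sumP P f - f 1 := fun f => by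
      rw [H.sumP_split f]; ring
    rw [Finset.sum_comm] at key
    rw [← Finset.sum_subset (Finset.subset_univ (Z ∪ Y)) (fun χ _ hχ => by
      rw [← Finset.mul_sum, Finset.sum_eq_zero fun x hx => hout χ
        (fun h => hχ (Finset.mem_union_left _ h)) (fun h => hχ (Finset.mem_union_right _ h)) x
        (Finset.mem_filter.1 (Finset.mem_of_mem_erase hx)).2 (Finset.ne_of_mem_erase hx), mul_zero]),
      Finset.sum_union hd] at key
    rw [Finset.sum_congr rfl (s₁ := Z) (g := fun χ => ((p : ℂ) - 1) *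
      ((sgn χ : ℂ) * (χ : G → ℂ) 1)) (fun χ hχ => by
        rw [← Finset.mul_sum, hsplit, H.sumP_const _ (hval χ hχ)]; ring), ← Finset.mul_sum,
      ← hrel ψ₀ hψ₀ 1 (by rw [orderOf_one]; exact hp.out.not_dvd_one),
      Finset.sum_congr rfl (s₁ := Y) (g := fun _ => (charDegree (ψ₀ : G → ℂ) : ℂ) *
        (sumP P (ψ₀ : G → ℂ) - charDegree (ψ₀ : G → ℂ))) (fun ψ hψ => by
        rw [← Finset.mul_sum, hsplit, hinv ψ hψ, apply_one_eq_charDegree (isCharacter_of_isIrr ψ.2),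
          hdeg ψ hψ]), Finset.sum_const, nsmul_eq_mul,
      apply_one_eq_charDegree (isCharacter_of_isIrr ψ₀.2)] at key
    have ht : ((Y.card : ℂ)) * (e : ℕ) = (p : ℂ) - 1 := by
      rw [hY, ← Nat.cast_mul, Nat.div_mul_cancel hediv, Nat.cast_sub hp.out.pos, Nat.cast_one]
    have ht0 : (Y.card : ℂ) ≠ 0 := Nat.cast_ne_zero.2 (Finset.card_pos.2 ⟨ψ₀, hψ₀⟩).ne'
    rw [← ht] at key
    have h5 : ((Y.card : ℂ) * (charDegree (ψ₀ : G → ℂ) : ℂ)) *
        ((ε : ℂ) * (e : ℕ) + (sumP P (ψ₀ : G → ℂ) - charDegree (ψ₀ : G → ℂ))) = 0 := by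
      linear_combination key
    have h6 := (mul_eq_zero.1 h5).resolve_left (mul_ne_zero ht0 hd0)
    linear_combination h6
  refine ⟨⟨Z, Y, sgn, ε, charDegree (ψ₀ : G → ℂ), hd, hZ, hY, hε, ?_, fun χ hχ => (hZv χ hχ).1,
    fun χ hχ => (hZv χ hχ).2.1, hval, hdeg, hYv ψ₀ hψ₀, hYr, hrel, horbit,
    fun ψ hψ => (hinv ψ hψ).trans hsumY, hout⟩⟩
  have hmem : Block.oneIrr G ∈ principalBlock M G := Block.oneIrr_mem
  rw [hB] at hmem
  exact Finset.mem_union.2 hmem

end Hyp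

end Cfsg.Agent.Lib.Brauer43
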