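import Cfsg.Agent.Lib.Brauer43.Data

/-!
# The degrees in the principal block when there are few Sylow subgroups
-/

set_option autoImplicit false
set_option linter.unusedSectionVars false
set_option linter.style.haveILetI false

namespace Cfsg.Agent.Lib.Brauer43

open Cfsg Cfsg.Agent.Lib Cfsg.Agent.Lib.Char Cfsg.Agent.Lib.DefectOne
open Cfsg.Agent.Lib.Char.UC (C N)
open scoped ComplexConjugate Classical

universe u

variable {p : ℕ} [hp : Fact p.Prime] {G : Type u} [Group G] [Fintype G] {P : Sylow p G} {n : ℕ}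

namespace Hyp

theorem degree_facts (H : Hyp P n) (χ : IrrCharacter G) (hnd : ¬ p ∣ charDegree (χ : G → ℂ)) :
    charDegree (χ : G → ℂ) ∣ eN P * (1 + n * p) ∧
    charDegree (χ : G → ℂ) ∣ (p - 1) * (1 + n * p) ∧
    charDegree (χ : G → ℂ) * charDegree (χ : G → ℂ) ≤ p * (p - 1) * (1 + n * p) := by
  have h := charDegree_dvd_card χ.2
  rw [H.card_G, mul_assoc] at h
  have h1 := ((hp.out.coprime_iff_not_dvd).2 hnd).symm.dvd_of_dvd_mul_left h
  refine ⟨h1, h1.trans (mul_dvd_mul_right H.e_dvd _), ?_⟩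
  have h2 : charDegree (χ : G → ℂ) ^ 2 ≤ ∑ ψ : IrrCharacter G, charDegree (ψ : G → ℂ) ^ 2 :=
    Finset.single_le_sum (f := fun ψ : IrrCharacter G => charDegree (ψ : G → ℂ) ^ 2)
      (fun _ _ => Nat.zero_le _) (Finset.mem_univ χ)
  rw [sum_charDegree_sq, H.card_G, sq] at h2
  exact h2.trans (Nat.mul_le_mul_right _ (Nat.mul_le_mul_left _
    (Nat.le_of_dvd (by have := H.p_three; omega) H.e_dvd)))

theorem not_dvd_of_congr (_H : Hyp P n) {f : ℕ} {s : ℤ} (hs : s = 1 ∨ s = -1)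
    (h : (f : ℤ) ≡ s [ZMOD p]) : ¬ p ∣ f := by
  intro hd
  have h1 : (p : ℤ) ∣ s := by
    have := h.dvd
    have h2 : (p : ℤ) ∣ (f : ℤ) := Int.natCast_dvd_natCast.2 hd
    simpa using dvd_add this h2
  have h3 : (p : ℤ) ∣ 1 := by rcases hs with rfl | rfl <;> simpa using h1
  have := Int.le_of_dvd one_pos h3
  have := hp.out.two_le
  omega

/-- The degrees congruent to a sign. -/
theorem classify (H : Hyp P n) (χ : IrrCharacter G) {s : ℤ} (hs : s = 1 ∨ s = -1)
    (h : (charDegree (χ : G → ℂ) : ℤ) ≡ s [ZMOD p]) :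
    (s = 1 ∧ (χ = Block.oneIrr G ∨ charDegree (χ : G → ℂ) = 1 + n * p)) ∨
      (s = -1 ∧ charDegree (χ : G → ℂ) = p - 1) := by
  obtain ⟨-, h1, h2⟩ := H.degree_facts χ (H.not_dvd_of_congr hs h)
  have hp3 := H.p_three
  have h0 := charDegree_pos χ.2
  obtain ⟨c, hc⟩ := h.dvd
  set f := charDegree (χ : G → ℂ) with hf
  have hp' : (3 : ℤ) ≤ p := by exact_mod_cast hp3
  have hf0 : (1 : ℤ) ≤ f := by exact_mod_cast h0
  have hc0 : c ≤ 0 := by
    by_contra hh
    rcases hs with rfl | rfl <;> nlinarith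
  obtain ⟨r, rfl⟩ : ∃ r : ℕ, c = -(r : ℤ) := ⟨(-c).toNat, by omega⟩
  rcases hs with rfl | rfl
  · refine Or.inl ⟨rfl, ?_⟩
    have hr : f = r * p + 1 := by
      have : (f : ℤ) = r * p + 1 := by linarith
      exact_mod_cast this
    rcases deg_plus hp3 H.one_le_n H.noF hr h1 with rfl | rfl
    · exact Or.inl (H.eq_one_of_degree_one (by rw [← hf, hr]; simp))
    · exact Or.inr (by rw [hr, add_comm])
  · refine Or.inr ⟨rfl, ?_⟩
    have hr : f + 1 = r * p := by
      have : (f : ℤ) + 1 = r * p := by linarith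
      exact_mod_cast this
    have := deg_minus hp3 H.one_le_n H.noF hr h1 h2
    subst this
    omega

theorem oneIrr_sgn (H : Hyp P n) {s : ℤ} (hs : s = 1 ∨ s = -1)
    (h : (charDegree (Block.oneIrr G : G → ℂ) : ℤ) ≡ s [ZMOD p]) : s = 1 := by
  rcases H.classify _ hs h with ⟨h1, -⟩ | ⟨-, h2⟩
  · exact h1
  · rw [show charDegree (Block.oneIrr G : G → ℂ) = 1 from charDegree_one] at h2
    have := H.p_three
    omega

/-- The signed degree sum over a set containing the trivial character. -/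
theorem signed_sum (H : Hyp P n) (S : Finset (IrrCharacter G)) (s : IrrCharacter G → ℤ)
    (hone : Block.oneIrr G ∈ S) (hs : ∀ χ ∈ S, s χ = 1 ∨ s χ = -1)
    (hc : ∀ χ ∈ S, (charDegree (χ : G → ℂ) : ℤ) ≡ s χ [ZMOD p]) :
    ∑ χ ∈ S, s χ * (charDegree (χ : G → ℂ) : ℤ) =
        1 + (((S.erase (Block.oneIrr G)).filter fun χ => s χ = 1).card : ℤ) * (1 + n * p) -
          (((S.erase (Block.oneIrr G)).filter fun χ => ¬ s χ = 1).card : ℤ) * ((p : ℤ) - 1) ∧
      ((S.erase (Block.oneIrr G)).filter fun χ => s χ = 1).card +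
        ((S.erase (Block.oneIrr G)).filter fun χ => ¬ s χ = 1).card = S.card - 1 := by
  refine ⟨?_, by rw [Finset.card_filter_add_card_filter_not, Finset.card_erase_of_mem hone]⟩
  rw [← Finset.add_sum_erase _ _ hone, H.oneIrr_sgn (hs _ hone) (hc _ hone),
    show charDegree (Block.oneIrr G : G → ℂ) = 1 from charDegree_one,
    ← Finset.sum_filter_add_sum_filter_not (S.erase (Block.oneIrr G)) (fun χ => s χ = 1),
    Finset.sum_congr rfl (s₁ := (S.erase _).filter fun χ => s χ = 1)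
      (g := fun _ => (1 + (n : ℤ) * p)) (fun χ hχ => ?_),
    Finset.sum_congr rfl (s₁ := (S.erase _).filter fun χ => ¬ s χ = 1)
      (g := fun _ => -((p : ℤ) - 1)) (fun χ hχ => ?_), Finset.sum_const, Finset.sum_const,
    nsmul_eq_mul, nsmul_eq_mul]
  · push_cast; ring
  · obtain ⟨hχe, hsne⟩ := Finset.mem_filter.1 hχ
    have hχS := Finset.mem_of_mem_erase hχe
    rcases H.classify χ (hs χ hχS) (hc χ hχS) with ⟨h1, -⟩ | ⟨h1, h2⟩
    · exact absurd h1 hsne
    · rw [h1, h2, Nat.cast_sub hp.out.pos]; simp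
  · obtain ⟨hχe, hs1⟩ := Finset.mem_filter.1 hχ
    have hχS := Finset.mem_of_mem_erase hχe
    rcases H.classify χ (hs χ hχS) (hc χ hχS) with ⟨-, h1 | h2⟩ | ⟨h1, -⟩
    · exact absurd h1 (Finset.ne_of_mem_erase hχe)
    · rw [hs1, h2]; push_cast; ring
    · omega

end Hyp

namespace Data

/-- The number of exceptional characters. -/
noncomputable def t (_d : Data P) : ℕ := (p - 1) / eN P

/-- The nontrivial nonexceptional characters of sign one. -/
noncomputable def X (d : Data P) : Finset (IrrCharacter G) :=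
  (d.Z.erase (Block.oneIrr G)).filter fun χ => d.sgn χ = 1

/-- The nonexceptional characters of sign minus one. -/
noncomputable def W (d : Data P) : Finset (IrrCharacter G) :=
  (d.Z.erase (Block.oneIrr G)).filter fun χ => ¬ d.sgn χ = 1

theorem rel_one (d : Data P) {ψ : IrrCharacter G} (hψ : ψ ∈ d.Y) :
    d.ε * (d.D : ℤ) = ∑ χ ∈ d.Z, d.sgn χ * (charDegree (χ : G → ℂ) : ℤ) := by
  have h := d.rel ψ hψ 1 (by rw [orderOf_one]; exact hp.out.not_dvd_one)
  simp only [apply_one_eq_charDegree (isCharacter_of_isIrr ψ.2), d.degY ψ hψ,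
    fun χ : IrrCharacter G => apply_one_eq_charDegree (isCharacter_of_isIrr χ.2)] at h
  exact_mod_cast h

theorem t_mul (H : Hyp P n) (d : Data P) : d.t * eN P = p - 1 := by
  rw [t, mul_comm]; exact H.e_mul

theorem t_pos (H : Hyp P n) (d : Data P) : 0 < d.t := by
  have := d.t_mul H
  have := H.p_three
  rcases Nat.eq_zero_or_pos d.t with h | h
  · exfalso
    rename_i h1 h2
    simp only [h, zero_mul] at *
    omega
  · exact h

theorem exists_mem_Y (H : Hyp P n) (d : Data P) : ∃ ψ, ψ ∈ d.Y :=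
  Finset.card_pos.1 (d.cardY ▸ d.t_pos H)

/-- There are at least two exceptional characters. -/
theorem two_le_t (H : Hyp P n) (d : Data P) : 2 ≤ d.t := by
  by_contra hlt
  have ht : d.t = 1 := by have := d.t_pos H; omega
  have he : eN P = p - 1 := by have := d.t_mul H; rw [ht] at this; omega
  obtain ⟨ψ, hψ⟩ := d.exists_mem_Y H
  set s : IrrCharacter G → ℤ := fun χ => if χ ∈ d.Y then -d.ε else d.sgn χ with hs
  have hsZ : ∀ χ ∈ d.Z, s χ = d.sgn χ := fun χ hχ =>
    if_neg (Finset.disjoint_left.1 d.disj hχ)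
  have hsY : ∀ χ ∈ d.Y, s χ = -d.ε := fun χ hχ => if_pos hχ
  have hpm : ∀ χ ∈ d.Z ∪ d.Y, s χ = 1 ∨ s χ = -1 := fun χ hχ => by
    rcases Finset.mem_union.1 hχ with h | h
    · rw [hsZ χ h]; exact d.sgn_pm χ h
    · rw [hsY χ h]; rcases d.eps with e | e <;> rw [e] <;> norm_num
  have hcg : ∀ χ ∈ d.Z ∪ d.Y, (charDegree (χ : G → ℂ) : ℤ) ≡ s χ [ZMOD p] := fun χ hχ => by
    rcases Finset.mem_union.1 hχ with h | h
    · rw [hsZ χ h]; exact d.congrZ χ h
    · rw [hsY χ h, d.degY χ h]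
      refine d.congrY.trans (Int.modEq_iff_dvd.2 ⟨-d.ε, ?_⟩)
      rw [he, Nat.cast_sub hp.out.pos]
      push_cast
      ring
  obtain ⟨hsum, hcard⟩ := H.signed_sum (d.Z ∪ d.Y) s d.one_mem hpm hcg
  have hYψ : d.Y = {ψ} := by
    refine (Finset.eq_of_subset_of_card_le (Finset.singleton_subset_iff.2 hψ) ?_).symm
    rw [d.cardY, Finset.card_singleton]; exact le_of_eq ht
  rw [Finset.sum_union d.disj, Finset.sum_congr rfl (g := fun χ => d.sgn χ *
    (charDegree (χ : G → ℂ) : ℤ)) (fun χ hχ => by rw [hsZ χ hχ]), ← d.rel_one hψ, hYψ,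
    Finset.sum_singleton, hsY ψ hψ, d.degY ψ hψ] at hsum
  rw [Finset.card_union_of_disjoint d.disj, d.cardZ, hYψ, Finset.card_singleton, he,
    Nat.add_sub_cancel] at hcard
  have hev := even_of_one_exceptional H.p_odd hcard (n := n) (by linear_combination -hsum)
  have hA := H.even_card_sylow (he ▸ by
    have := H.p_odd
    exact Nat.even_iff.2 (by omega))
  rw [Nat.even_add, Nat.even_mul] at hA
  simp [hev] at hA

theorem one_mem_Z (H : Hyp P n) (d : Data P) : Block.oneIrr G ∈ d.Z := by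
  refine (Finset.mem_union.1 d.one_mem).resolve_right fun h => ?_
  have hc := d.congrY
  rw [← d.degY _ h, show charDegree (Block.oneIrr G : G → ℂ) = 1 from charDegree_one] at hc
  obtain ⟨c, hc'⟩ := hc.dvd
  have h2 := H.two_le_e
  have ht := d.two_le_t H
  have htm := d.t_mul H
  have : 2 * eN P ≤ d.t * eN P := Nat.mul_le_mul_right _ ht
  have hlt : (eN P : ℤ) + 1 < p := by omega
  have h2' : (2 : ℤ) ≤ eN P := by exact_mod_cast h2
  rcases d.eps with e | e <;> rw [e] at hc'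
  · rcases le_or_gt c 0 with hc0 | hc0
    · have := mul_nonpos_of_nonneg_of_nonpos (Int.natCast_nonneg p) hc0
      push_cast at hc'
      linarith
    · nlinarith
  · rcases le_or_gt c (-1) with hc0 | hc0
    · have := mul_le_mul_of_nonneg_left hc0 (Int.natCast_nonneg p)
      push_cast at hc'
      linarith
    · nlinarith

theorem mem_X (H : Hyp P n) (d : Data P) {χ : IrrCharacter G} (hχ : χ ∈ d.X) :
    χ ∈ d.Z ∧ χ ≠ Block.oneIrr G ∧ d.sgn χ = 1 ∧ charDegree (χ : G → ℂ) = 1 + n * p := by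
  obtain ⟨he, hs⟩ := Finset.mem_filter.1 hχ
  refine ⟨Finset.mem_of_mem_erase he, Finset.ne_of_mem_erase he, hs, ?_⟩
  rcases H.classify χ (d.sgn_pm χ (Finset.mem_of_mem_erase he))
    (d.congrZ χ (Finset.mem_of_mem_erase he)) with ⟨-, h | h⟩ | ⟨h, -⟩
  · exact absurd h (Finset.ne_of_mem_erase he)
  · exact h
  · omega

theorem mem_W (H : Hyp P n) (d : Data P) {χ : IrrCharacter G} (hχ : χ ∈ d.W) :
    χ ∈ d.Z ∧ χ ≠ Block.oneIrr G ∧ d.sgn χ = -1 ∧ charDegree (χ : G → ℂ) = p - 1 := by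
  obtain ⟨he, hs⟩ := Finset.mem_filter.1 hχ
  refine ⟨Finset.mem_of_mem_erase he, Finset.ne_of_mem_erase he, ?_⟩
  rcases H.classify χ (d.sgn_pm χ (Finset.mem_of_mem_erase he))
    (d.congrZ χ (Finset.mem_of_mem_erase he)) with ⟨h, -⟩ | h
  · exact absurd h hs
  · exact h

theorem sum_Z {A : Type*} [AddCommMonoid A] (H : Hyp P n) (d : Data P)
    (f : IrrCharacter G → A) :
    ∑ χ ∈ d.Z, f χ = f (Block.oneIrr G) + (∑ χ ∈ d.X, f χ + ∑ χ ∈ d.W, f χ) := by
  rw [← Finset.add_sum_erase _ _ (d.one_mem_Z H), X, W, Finset.sum_filter_add_sum_filter_not]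

theorem sgn_one (H : Hyp P n) (d : Data P) : d.sgn (Block.oneIrr G) = 1 :=
  H.oneIrr_sgn (d.sgn_pm _ (d.one_mem_Z H)) (d.congrZ _ (d.one_mem_Z H))

theorem card_X_add_W (H : Hyp P n) (d : Data P) : d.X.card + d.W.card + 1 = eN P := by
  rw [X, W, Finset.card_filter_add_card_filter_not, Finset.card_erase_of_mem (d.one_mem_Z H),
    d.cardZ]
  have := H.two_le_e
  omega

/-- The two possibilities for the exceptional degree. -/
theorem cases (H : Hyp P n) (d : Data P) :
    (d.ε = 1 ∧ d.D = eN P ∧ d.W.card = d.X.card * n) ∨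
    (d.ε = -1 ∧ ∃ w, 0 < w ∧ d.t * w = n + 1 ∧ d.t * d.D = 1 + n * p ∧ d.D + eN P = p * w ∧
      d.W.card = d.X.card * n + w) := by
  obtain ⟨ψ, hψ⟩ := d.exists_mem_Y H
  have hp3 := H.p_three
  have ht := d.two_le_t H
  have htm := d.t_mul H
  have hxy := d.card_X_add_W H
  obtain ⟨hsum, -⟩ := H.signed_sum d.Z d.sgn (d.one_mem_Z H) d.sgn_pm d.congrZ
  rw [← d.rel_one hψ] at hsum
  -- the bounds for `t D`
  have hnd : ¬ p ∣ charDegree (ψ : G → ℂ) := by
    intro hd
    rw [d.degY ψ hψ] at hd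
    have h1 := d.congrY
    have h2 : (p : ℤ) ∣ d.ε * (eN P : ℕ) := by
      have := h1.dvd
      simpa using dvd_add this (Int.natCast_dvd_natCast.2 hd)
    have h3 : (p : ℤ) ∣ ((eN P : ℕ) : ℤ) := by
      rcases d.eps with e | e <;> rw [e] at h2 <;> simpa using h2
    have h4 := Nat.le_of_dvd (by have := H.two_le_e; omega) (Int.natCast_dvd_natCast.1 h3)
    have := H.e_lt
    omega
  obtain ⟨hdA, -, -⟩ := H.degree_facts ψ hnd
  rw [d.degY ψ hψ] at hdA
  have hdvd : d.t * d.D ∣ (p - 1) * (1 + n * p) := by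
    rw [← htm, mul_assoc]; exact mul_dvd_mul_left _ hdA
  have hsq : d.t * d.D * (d.t * d.D) ≤ p * (p - 1) * (1 + n * p) := by
    have h1 : d.t * d.D ^ 2 ≤ Nat.card G := by
      rw [← sum_charDegree_sq (G := G)]
      refine le_trans (le_of_eq ?_) (Finset.sum_le_sum_of_subset (f := fun χ : IrrCharacter G =>
        charDegree (χ : G → ℂ) ^ 2) (Finset.subset_univ d.Y))
      rw [Finset.sum_congr rfl (g := fun _ => d.D ^ 2) (fun χ hχ => by rw [d.degY χ hχ]),
        Finset.sum_const, d.cardY, smul_eq_mul]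
      rfl
    rw [H.card_G] at h1
    calc d.t * d.D * (d.t * d.D) = d.t * (d.t * d.D ^ 2) := by ring
      _ ≤ d.t * (p * eN P * (1 + n * p)) := Nat.mul_le_mul_left _ h1
      _ = p * (d.t * eN P) * (1 + n * p) := by ring
      _ = p * (p - 1) * (1 + n * p) := by rw [htm]
  have htz : (d.t : ℤ) * (eN P : ℕ) = (p : ℤ) - 1 := by
    rw [← Nat.cast_mul, htm, Nat.cast_sub hp.out.pos, Nat.cast_one]
  have hxy' : (d.X.card : ℤ) + d.W.card + 1 = (eN P : ℕ) := by exact_mod_cast hxy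
  change d.ε * (d.D : ℤ) = 1 + (d.X.card : ℤ) * (1 + n * p) - (d.W.card : ℤ) * ((p : ℤ) - 1) at hsum
  have he := H.e_lt
  have he' : (eN P : ℤ) < p := by exact_mod_cast he
  have hD0 : (0 : ℤ) < d.D := by
    have := d.degY ψ hψ ▸ charDegree_pos ψ.2
    exact_mod_cast this
  rcases d.eps with hε | hε <;> rw [hε] at hsum
  · left
    have h1 : (d.D : ℤ) = (eN P : ℕ) + p * ((d.X.card : ℤ) * n - d.W.card) := by
      linear_combination hsum + hxy'
    have hm0 : 0 ≤ (d.X.card : ℤ) * n - d.W.card := by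
      by_contra hh
      nlinarith
    obtain ⟨m, hm⟩ : ∃ m : ℕ, (d.X.card : ℤ) * n - d.W.card = m :=
      ⟨_, (Int.toNat_of_nonneg hm0).symm⟩
    rw [hm] at h1
    have hu : d.t * d.D + 1 = (d.t * m + 1) * p := by
      have : ((d.t : ℤ) * d.D + 1) = ((d.t : ℤ) * m + 1) * p := by
        rw [h1]; linear_combination htz
      exact_mod_cast this
    have h2 := deg_minus hp3 H.one_le_n H.noF hu hdvd hsq
    have hm' : m = 0 := by
      rcases Nat.eq_zero_or_pos m with h | h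
      · exact h
      · have := Nat.mul_pos (show 0 < d.t by omega) h
        omega
    rw [hm', Nat.cast_zero] at h1 hm
    refine ⟨hε, by exact_mod_cast (by linarith : (d.D : ℤ) = (eN P : ℕ)), ?_⟩
    exact_mod_cast (by linarith : (d.W.card : ℤ) = d.X.card * n)
  · right
    refine ⟨hε, ?_⟩
    have h1 : (d.D : ℤ) = p * ((d.W.card : ℤ) - d.X.card * n) - (eN P : ℕ) := by
      linear_combination -hsum - hxy'
    have hw0 : 0 < (d.W.card : ℤ) - d.X.card * n := by
      by_contra hh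
      nlinarith
    obtain ⟨w, hw⟩ : ∃ w : ℕ, (d.W.card : ℤ) - d.X.card * n = w :=
      ⟨_, (Int.toNat_of_nonneg hw0.le).symm⟩
    rw [hw] at h1 hw0
    have hwpos : 0 < w := by exact_mod_cast hw0
    obtain ⟨r, hr⟩ : ∃ r, d.t * w = r + 1 :=
      ⟨d.t * w - 1, by have := Nat.mul_pos (show 0 < d.t by omega) hwpos; omega⟩
    have hr' : (d.t : ℤ) * w = r + 1 := by exact_mod_cast hr
    have hu : d.t * d.D = r * p + 1 := by
      have : ((d.t : ℤ) * d.D) = (r : ℤ) * p + 1 := by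
        rw [h1]; linear_combination (p : ℤ) * hr' - htz
      exact_mod_cast this
    have h2 : 2 ≤ d.t * w :=
      le_trans ht (Nat.le_mul_of_pos_right _ hwpos)
    rcases deg_plus hp3 H.one_le_n H.noF hu hdvd with h | h
    · omega
    rw [h] at hr hu
    refine ⟨w, hwpos, hr, by rw [hu, add_comm], ?_, ?_⟩
    · exact_mod_cast (by linarith : (d.D : ℤ) + (eN P : ℕ) = p * w)
    · exact_mod_cast (by linarith : (d.W.card : ℤ) = d.X.card * n + w)

end Data

end Cfsg.Agent.Lib.Brauer43
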