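import Cfsg.Agent.Lib.Brauer43.Degrees

/-!
# Fixed points on the Sylow subgroups and characters induced from the normaliser
-/

set_option autoImplicit false
set_option linter.unusedSectionVars false
set_option linter.style.haveILetI false

namespace Cfsg.Agent.Lib.Brauer43

open Cfsg Cfsg.Agent.Lib Cfsg.Agent.Lib.Char Cfsg.Agent.Lib.DefectOne
open Cfsg.Agent.Lib.Char.UC (C N)
open scoped ComplexConjugate Classical

universe u

section General

variable {G : Type u} [Group G] [Fintype G]

/-- The degrees of distinct constituents add up to at most the degree. -/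
theorem sum_degree_le {φ : G → ℂ} (hφ : IsCharacter G φ) (S : Finset (IrrCharacter G))
    (hS : ∀ χ ∈ S, classInner φ (χ : G → ℂ) ≠ 0) :
    ∑ χ ∈ S, charDegree (χ : G → ℂ) ≤ charDegree φ := by
  choose m hm using fun ψ : IrrCharacter G => classInner_natCast hφ (isCharacter_of_isIrr ψ.2)
  have h1 := congrFun (eq_sum_classInner_smul (isClassFunction_of_isCharacter hφ)) 1
  simp only [Finset.sum_apply, Pi.smul_apply, smul_eq_mul, hm, apply_one_eq_charDegree hφ,
    fun ψ : IrrCharacter G => apply_one_eq_charDegree (isCharacter_of_isIrr ψ.2)] at h1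
  have h2 : charDegree φ = ∑ ψ : IrrCharacter G, m ψ * charDegree (ψ : G → ℂ) := by exact_mod_cast h1
  rw [h2]
  refine le_trans (Finset.sum_le_sum fun χ hχ => ?_)
    (Finset.sum_le_sum_of_subset (Finset.subset_univ S))
  refine Nat.le_mul_of_pos_left _ (Nat.pos_of_ne_zero fun e => hS χ hχ ?_)
  rw [hm χ, e, Nat.cast_zero]

/-- A constituent of full degree is the whole character. -/
theorem eq_of_constituent {φ : G → ℂ} (hφ : IsCharacter G φ) (χ : IrrCharacter G)
    (h : classInner φ (χ : G → ℂ) ≠ 0) (hd : charDegree φ = charDegree (χ : G → ℂ)) :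
    φ = (χ : G → ℂ) := by
  choose m hm using fun ψ : IrrCharacter G => classInner_natCast hφ (isCharacter_of_isIrr ψ.2)
  have h0 : ∀ ψ, ψ ≠ χ → m ψ = 0 := by
    intro ψ hne
    by_contra hm0
    have h2 := sum_degree_le hφ {χ, ψ} (fun X hX => by
      rcases Finset.mem_insert.1 hX with rfl | hX
      · exact h
      · rw [Finset.mem_singleton.1 hX, hm ψ]; exact Nat.cast_ne_zero.2 hm0)
    rw [Finset.sum_pair hne.symm, hd] at h2
    have := charDegree_pos ψ.2
    omega
  have hall : ∀ g, φ g = (m χ : ℂ) * (χ : G → ℂ) g := fun g => by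
    have h1 := congrFun (eq_sum_classInner_smul (isClassFunction_of_isCharacter hφ)) g
    simp only [Finset.sum_apply, Pi.smul_apply, smul_eq_mul, hm] at h1
    rw [h1, Finset.sum_eq_single χ (fun ψ _ hne => by rw [h0 ψ hne, Nat.cast_zero, zero_mul])
      (fun hc => absurd (Finset.mem_univ χ) hc)]
  have h1 := hall 1
  rw [apply_one_eq_charDegree hφ, hd, apply_one_eq_charDegree (isCharacter_of_isIrr χ.2)] at h1
  funext g
  rw [hall g, mul_right_cancel₀ (Nat.cast_ne_zero.2 (charDegree_pos χ.2).ne')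
    (h1.symm.trans (one_mul _).symm), one_mul]

end General

variable {p : ℕ} [hp : Fact p.Prime] {G : Type u} [Group G] [Fintype G] {P : Sylow p G} {n : ℕ}

variable (p) in
/-- The number of Sylow subgroups normalised by `g`. -/
noncomputable def fixCount (g : G) : ℕ := Nat.card {Q : Sylow p G // g • Q = Q}

theorem fixed_iff {g x : G} : g • (x • P) = x • P ↔ x⁻¹ * g * x ∈ N P := by
  refine Iff.trans ?_ (Sylow.smul_eq_iff_mem_normalizer (P := P))
  rw [mul_smul, mul_smul, inv_smul_eq_iff]

/-- Summing over the group a function of the conjugate of `P`. -/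
theorem sum_smul (F : Sylow p G → ℂ) :
    ∑ x : G, F (x • P) = (Nat.card (N P) : ℂ) * ∑ Q : Sylow p G, F Q := by
  rw [← Finset.sum_fiberwise (g := fun x : G => x • P) Finset.univ, Finset.mul_sum]
  refine Finset.sum_congr rfl fun Q _ => ?_
  obtain ⟨x₀, rfl⟩ := MulAction.exists_smul_eq G P Q
  rw [Finset.sum_congr rfl (g := fun _ => F (x₀ • P))
    (fun x hx => by rw [(Finset.mem_filter.1 hx).2]), Finset.sum_const, nsmul_eq_mul]
  congr 1
  rw [Nat.cast_inj, ← Fintype.card_subtype, ← Nat.card_eq_fintype_card]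
  refine Nat.card_congr (Equiv.subtypeEquiv (Equiv.mulLeft x₀⁻¹) fun x => ?_)
  show x • P = x₀ • P ↔ x₀⁻¹ * x ∈ N P
  refine Iff.trans ?_ (Sylow.smul_eq_iff_mem_normalizer (P := P))
  rw [mul_smul, inv_smul_eq_iff]

theorem fixCount_pos {g : G} {Q : Sylow p G} (h : g • Q = Q) : 0 < fixCount p g :=
  Finite.card_pos_iff.2 ⟨⟨Q, h⟩⟩

theorem fixCount_eq_zero_iff {g : G} :
    fixCount p g = 0 ↔ ∀ Q : Sylow p G, g • Q ≠ Q := by
  rw [fixCount, Finite.card_eq_zero_iff, isEmpty_subtype]

/-- Induction from the normaliser where the function is constant. -/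
theorem indFun_eq_mul (θ : N P → ℂ) (g : G) (a : ℂ)
    (h : ∀ x : G, ∀ hx : x⁻¹ * g * x ∈ N P, θ ⟨_, hx⟩ = a) :
    indFun (N P) θ g = a * (fixCount p g : ℂ) := by
  have h1 : ∀ x : G, extendByZero (N P) θ (x⁻¹ * g * x) =
      (fun Q : Sylow p G => if g • Q = Q then a else 0) (x • P) := by
    intro x
    by_cases hx : x⁻¹ * g * x ∈ N P
    · rw [extendByZero_mem (N P) θ hx, h x hx]
      exact (if_pos (fixed_iff.2 hx)).symm
    · rw [extendByZero_not_mem (N P) θ hx]
      exact (if_neg (fun e => hx (fixed_iff.1 e))).symm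
  rw [indFun, Finset.sum_congr rfl (fun x _ => h1 x),
    sum_smul (P := P) (fun Q : Sylow p G => if g • Q = Q then a else 0),
    ← mul_assoc, inv_mul_cancel₀ (Nat.cast_ne_zero.2 Nat.card_pos.ne'), one_mul,
    ← Finset.sum_filter, Finset.sum_const, nsmul_eq_mul, ← Fintype.card_subtype,
    ← Nat.card_eq_fintype_card, mul_comm]
  rfl

theorem indFun_eq_zero (θ : N P → ℂ) {g : G} (h : fixCount p g = 0) : indFun (N P) θ g = 0 := by
  rw [indFun_eq_mul θ g 0 fun x hx => absurd (fixed_iff.2 hx) (fixCount_eq_zero_iff.1 h _), zero_mul]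

/-- The permutation character on the Sylow subgroups. -/
theorem indFun_one_eq (g : G) :
    indFun (N P) (fun _ => (1 : ℂ)) g = (fixCount p g : ℂ) := by
  rw [indFun_eq_mul (fun _ => (1 : ℂ)) g 1 fun _ _ => rfl, one_mul]

namespace Hyp

theorem fixCount_mem (H : Hyp P n) {x : G} (hx : x ∈ (P : Subgroup G)) (hx1 : x ≠ 1) :
    fixCount p x = 1 := by
  rw [fixCount, Nat.card_eq_one_iff_exists]
  refine ⟨⟨P, Sylow.smul_eq_iff_mem_normalizer.2 (H.P_le_N hx)⟩, fun Q => ?_⟩
  exact Subtype.ext (H.eq_of_smul hx hx1 Q.2)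

theorem charDegree_ind (H : Hyp P n) {θ : N P → ℂ} (hθ : IsCharacter (N P) θ) (h1 : θ 1 = 1) :
    charDegree (indFun (N P) θ) = 1 + n * p := by
  refine charDegree_eq_of_apply_one ?_
  rw [indFun_one, h1, mul_one, H.index_N]

theorem classInner_pi_one (H : Hyp P n) :
    classInner (indFun (N P) (fun _ => (1 : ℂ))) (fun _ : G => (1 : ℂ)) = 1 := by
  rw [classInner_indFun (N P) (fun _ => (1 : ℂ)) (isClassFunction_of_isIrr isIrrCharacter_one)]
  exact classInner_irr_self isIrrCharacter_one

end Hyp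

namespace Data

/-- A character of degree `1 + n p` in the block is induced from the normaliser. -/
theorem exists_lin_of_X (H : Hyp P n) (d : Data P) {χ : IrrCharacter G} (hχ : χ ∈ d.X) :
    ∃ θ : IrrCharacter (N P), IsLin θ ∧ indFun (N P) (θ : N P → ℂ) = (χ : G → ℂ) := by
  obtain ⟨hZ, hne, hs, hdeg⟩ := d.mem_X H hχ
  have hc := isCharacter_of_isIrr χ.2
  have hsum : sumP P (χ : G → ℂ) ≠ 0 := by
    rw [H.sumP_const _ (d.valZ χ hZ), hs, apply_one_eq_charDegree hc, hdeg]
    intro e
    have e' : ((1 + n * p + p - 1 : ℕ) : ℂ) = 0 := by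
      rw [Nat.cast_sub (by have := H.p_three; omega)]
      push_cast
      rw [← e]; push_cast; ring
    have := H.p_three
    have : 1 + n * p + p - 1 = 0 := by exact_mod_cast e'
    omega
  obtain ⟨θ, hθ, hin⟩ := H.exists_lin hc hsum
  refine ⟨θ, hθ, eq_of_constituent (isCharacter_indFun _ (isCharacter_of_isIrr θ.2)) χ ?_ ?_⟩
  · rw [classInner_indFun _ _ (isClassFunction_of_isIrr χ.2), classInner_conj_symm]
    exact fun e => hin ((map_eq_zero _).1 e)
  · rw [H.charDegree_ind (isCharacter_of_isIrr θ.2) hθ.1, hdeg]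

end Data

end Cfsg.Agent.Lib.Brauer43
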