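import Cfsg.Agent.Lib.Brauer43.Stab
import Cfsg.Agent.Lib.DefectOne.GaloisConj

/-!
# Involutions and the elements without fixed points
-/

set_option autoImplicit false
set_option linter.unusedSectionVars false
set_option linter.style.haveILetI false

namespace Cfsg.Agent.Lib.Brauer43

open Cfsg Cfsg.Agent.Lib Cfsg.Agent.Lib.Char Cfsg.Agent.Lib.DefectOne
open Cfsg.Agent.Lib.Char.UC (C N)
open scoped ComplexConjugate Classical

universe u

section General

variable {G : Type u} [Group G] [Fintype G]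

/-- A character with given constituents whose degrees fill it up. -/
theorem eq_sum_of_constituents {φ : G → ℂ} (hφ : IsCharacter G φ) (S : Finset (IrrCharacter G))
    (hS : ∀ χ ∈ S, classInner φ (χ : G → ℂ) ≠ 0)
    (hd : charDegree φ ≤ ∑ χ ∈ S, charDegree (χ : G → ℂ)) (g : G) :
    φ g = ∑ χ ∈ S, (χ : G → ℂ) g := by
  choose m hm using fun ψ : IrrCharacter G => classInner_natCast hφ (isCharacter_of_isIrr ψ.2)
  have hdec : ∀ g, φ g = ∑ ψ : IrrCharacter G, (m ψ : ℂ) * (ψ : G → ℂ) g := fun g => by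
    have h1 := congrFun (eq_sum_classInner_smul (isClassFunction_of_isCharacter hφ)) g
    simp only [Finset.sum_apply, Pi.smul_apply, smul_eq_mul, hm] at h1
    exact h1
  have h2 : charDegree φ = ∑ ψ : IrrCharacter G, m ψ * charDegree (ψ : G → ℂ) := by
    have h1 := hdec 1
    simp only [apply_one_eq_charDegree hφ,
      fun ψ : IrrCharacter G => apply_one_eq_charDegree (isCharacter_of_isIrr ψ.2)] at h1
    exact_mod_cast h1
  have hpos : ∀ χ ∈ S, 1 ≤ m χ := fun χ hχ => Nat.one_le_iff_ne_zero.2 fun e => hS χ hχ (by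
    rw [hm χ, e, Nat.cast_zero])
  have hle : ∀ ψ : IrrCharacter G,
      (if ψ ∈ S then charDegree (ψ : G → ℂ) else 0) ≤ m ψ * charDegree (ψ : G → ℂ) := fun ψ => by
    split_ifs with h
    · exact Nat.le_mul_of_pos_left _ (hpos ψ h)
    · exact Nat.zero_le _
  have heq := (Finset.sum_eq_sum_iff_of_le fun ψ _ => hle ψ).1 (le_antisymm
    (Finset.sum_le_sum fun ψ _ => hle ψ)
    (by rw [Finset.sum_ite_mem, Finset.univ_inter, ← h2]; exact hd))
  have hval : ∀ ψ : IrrCharacter G, m ψ = if ψ ∈ S then 1 else 0 := fun ψ => by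
    have h := heq ψ (Finset.mem_univ ψ)
    have h0 := charDegree_pos ψ.2
    split_ifs with hψ
    · rw [if_pos hψ] at h
      exact (Nat.eq_of_mul_eq_mul_right h0 (h.symm.trans (one_mul _).symm))
    · rw [if_neg hψ] at h
      exact (Nat.mul_eq_zero.1 h.symm).resolve_right h0.ne'
  rw [hdec g]
  simp only [hval, Nat.cast_ite, Nat.cast_one, Nat.cast_zero, ite_mul, one_mul, zero_mul,
    Finset.sum_ite_mem, Finset.univ_inter]

/-- The pairs of conjugates of `c` with product `y`. -/
noncomputable def pairsOf (c y : G) : Finset (G × G) :=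
  Finset.univ.filter fun q => IsConj q.1 c ∧ IsConj q.2 c ∧ q.1 * q.2 = y

theorem card_pairsOf (c y : G) :
    (Nat.card G : ℂ) * ((pairsOf c y).card : ℂ) = ∑ χ : IrrCharacter G,
      (((Subgroup.centralizer ({c} : Set G)).index : ℂ) * (χ : G → ℂ) c) ^ 2 *
        (χ : G → ℂ) y⁻¹ / (χ : G → ℂ) 1 := by
  have h1 : ∀ χ : IrrCharacter G,
      (((Subgroup.centralizer ({c} : Set G)).index : ℂ) * (χ : G → ℂ) c) ^ 2 *
        (χ : G → ℂ) y⁻¹ / (χ : G → ℂ) 1 =
      ∑ a : G, ∑ b : G, CharTools.classInd c a * CharTools.classInd c b *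
        ((χ : G → ℂ) 1 * (χ : G → ℂ) (a * b * y⁻¹)) := by
    intro χ
    have h0 := irr_degree_ne_zero χ.2
    have h := sum_pair_mul_right χ.2 (f := CharTools.classInd c) (g := CharTools.classInd c)
      (fun x g => CharTools.classInd_conj c x g) (fun x g => CharTools.classInd_conj c x g) y⁻¹
    rw [CharTools.sum_classInd_mul (isClassFunction_of_isIrr χ.2) c] at h
    rw [Finset.sum_congr rfl fun a _ => Finset.sum_congr rfl fun b _ =>
      (show CharTools.classInd c a * CharTools.classInd c b *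
          ((χ : G → ℂ) 1 * (χ : G → ℂ) (a * b * y⁻¹)) =
        (χ : G → ℂ) 1 * (CharTools.classInd c a * CharTools.classInd c b *
          (χ : G → ℂ) (a * b * y⁻¹)) by ring)]
    simp only [← Finset.mul_sum]
    rw [h]
    field_simp
  rw [Finset.sum_congr rfl fun χ _ => h1 χ, Finset.sum_comm,
    Finset.sum_congr rfl fun a _ => Finset.sum_comm]
  simp only [← Finset.mul_sum, sum_degree_mul]
  rw [pairsOf, Finset.card_filter, Nat.cast_sum, Finset.mul_sum, Fintype.sum_prod_type]
  refine Finset.sum_congr rfl fun a _ => Finset.sum_congr rfl fun b _ => ?_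
  by_cases hab : a * b = y
  · rw [if_pos (mul_inv_eq_one.2 hab)]
    by_cases ha : IsConj a c
    · by_cases hb : IsConj b c
      · rw [CharTools.classInd_of ha, CharTools.classInd_of hb, if_pos ⟨ha, hb, hab⟩]; simp
      · rw [CharTools.classInd_of_not hb, if_neg fun h => hb h.2.1]; simp
    · rw [CharTools.classInd_of_not ha, if_neg fun h => ha h.1]; simp
  · rw [if_neg (fun h => hab (mul_inv_eq_one.1 h)), if_neg fun h => hab h.2.2]
    simp

end General

variable {p : ℕ} [hp : Fact p.Prime] {G : Type u} [Group G] [Fintype G] {P : Sylow p G} {n : ℕ}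

variable (p) in
/-- A regular element without fixed points on the Sylow subgroups. -/
def Rest (g : G) : Prop := ¬ p ∣ orderOf g ∧ fixCount p g = 0

theorem Rest.inv {g : G} (h : Rest p g) : Rest p g⁻¹ := by
  refine ⟨by rw [orderOf_inv]; exact h.1, fixCount_eq_zero_iff.2 fun Q hQ => ?_⟩
  rw [inv_smul_eq_iff] at hQ
  exact fixCount_eq_zero_iff.1 h.2 Q hQ.symm

theorem Rest.ne_one {g : G} (h : Rest p g) : g ≠ 1 := by
  rintro rfl
  obtain ⟨Q⟩ : Nonempty (Sylow p G) := inferInstance
  exact fixCount_eq_zero_iff.1 h.2 Q (one_smul G Q)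

theorem Rest.conj {g : G} (h : Rest p g) (x : G) : Rest p (x * g * x⁻¹) := by
  refine ⟨Hyp.conj_regular h.1 x, fixCount_eq_zero_iff.2 fun Q hQ => ?_⟩
  rw [mul_smul, mul_smul, ← eq_inv_smul_iff] at hQ
  exact fixCount_eq_zero_iff.1 h.2 _ hQ

namespace Two

variable {d : Data P} {w : ℕ} {H : Hyp P n}

theorem De_one (T : Two H d w) : d.D + eN P = p := by rw [T.De, T.w_eq_one, mul_one]

theorem t_eq (T : Two H d w) : d.t = n + 1 := by rw [← T.tw, T.w_eq_one, mul_one]

theorem e_eq (T : Two H d w) : eN P = d.X.card * d.t + 2 := by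
  have h := d.card_X_add_W H
  rw [T.cardW, T.w_eq_one] at h
  rw [T.t_eq, mul_add, mul_one]
  omega

theorem even_t (T : Two H d w) : Even d.t := by
  by_contra ho
  have hte : Even (d.t * eN P) := by
    rw [d.t_mul H]
    have := H.p_odd
    exact Nat.even_iff.2 (by omega)
  have he : Even (eN P) := (Nat.even_mul.1 hte).resolve_left ho
  have hA := H.even_card_sylow he
  have hn : Even n := by
    rw [T.t_eq, Nat.even_add_one, not_not] at ho
    exact ho
  rw [Nat.even_add, Nat.even_mul] at hA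
  simp [hn] at hA

theorem even_e (T : Two H d w) : Even (eN P) := by
  rw [T.e_eq]
  exact ((T.even_t).mul_left _).add even_two

theorem odd_D (T : Two H d w) : Odd d.D := by
  have h := T.De_one
  have := H.p_odd
  have := Nat.even_iff.1 T.even_e
  exact Nat.odd_iff.2 (by omega)

theorem exists_involution (T : Two H d w) :
    ∃ c, c ∈ N P ∧ c ∉ (P : Subgroup G) ∧ orderOf c = 2 := by
  haveI : Fact (Nat.Prime 2) := ⟨Nat.prime_two⟩
  obtain ⟨c, hc⟩ := exists_prime_orderOf_dvd_card' (G := N P) 2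
    (by rw [H.card_N]; exact dvd_mul_of_dvd_right T.even_e.two_dvd _)
  refine ⟨c, c.2, fun hP => ?_, by rw [Subgroup.orderOf_coe]; exact hc⟩
  have h1 : (c : G) ≠ 1 := fun e => by
    rw [← Subgroup.orderOf_coe, e, orderOf_one] at hc
    omega
  rw [← Subgroup.orderOf_coe, H.orderOf_mem hP h1] at hc
  exact H.p_ne_two hc

theorem sq_eq_one {c : G} (h : orderOf c = 2) : c * c = 1 := by
  rw [← pow_two, ← h, pow_orderOf_eq_one]

theorem inv_facts {c : G} (h : orderOf c = 2) : c ≠ 1 ∧ c⁻¹ = c :=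
  ⟨fun e => by rw [e, orderOf_one] at h; omega, inv_eq_of_mul_eq_one_right (sq_eq_one h)⟩

theorem orderOf_eq_two {c : G} (h1 : c ≠ 1) (h2 : c * c = 1) : orderOf c = 2 :=
  orderOf_eq_prime (by rw [pow_two, h2]) h1

/-- The centraliser of an involution of the normaliser. -/
theorem centralizer_involution (T : Two H d w) {c : G} (hc : c ∈ N P)
    (hcP : c ∉ (P : Subgroup G)) (h2 : orderOf c = 2) :
    Subgroup.centralizer ({c} : Set G) = Subgroup.normalizer (Cc P c : Set G) := by
  ext g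
  rw [Subgroup.mem_centralizer_singleton_iff]
  refine ⟨fun h => T.normalizes_of_commute hc hcP h, fun h => ?_⟩
  have hm : g * c * g⁻¹ ∈ Cc P c :=
    (Subgroup.mem_normalizer_iff.1 h c).1 (Hyp.mem_Cc_self hc)
  have he : g * c * g⁻¹ = c := H.involution_unique inf_le_right (H.Cc_inf hcP) hm
    (Hyp.mem_Cc_self hc) (fun e => (inv_facts h2).1 (conj_eq_one_iff.1 e)) (inv_facts h2).1
    (by rw [conj_mul, sq_eq_one h2, mul_one, mul_inv_cancel]) (sq_eq_one h2)
  exact mul_inv_eq_iff_eq_mul.1 he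

theorem card_centralizer (T : Two H d w) {c : G} (hc : c ∈ N P) (hcP : c ∉ (P : Subgroup G))
    (h2 : orderOf c = 2) : Nat.card (Subgroup.centralizer ({c} : Set G)) = d.t * eN P := by
  rw [T.centralizer_involution hc hcP h2, T.card_normalizer hc hcP, T.t_eq]

theorem index_centralizer (T : Two H d w) {c : G} (hc : c ∈ N P) (hcP : c ∉ (P : Subgroup G))
    (h2 : orderOf c = 2) : (Subgroup.centralizer ({c} : Set G)).index = p * d.D := by
  refine Nat.eq_of_mul_eq_mul_left (show 0 < d.t * eN P from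
    Nat.mul_pos (d.t_pos H) (by have := H.two_le_e; omega)) ?_
  rw [← T.card_centralizer hc hcP h2, Subgroup.card_mul_index, H.card_G,
    T.card_centralizer hc hcP h2, ← T.tD]
  ring

theorem sumP_Y (T : Two H d w) {ψ : IrrCharacter G} (hψ : ψ ∈ d.Y) :
    sumP P (ψ : G → ℂ) = (p : ℂ) := by
  have h : ((d.D : ℂ) + ((eN P : ℕ) : ℂ)) = p := by exact_mod_cast T.De_one
  rw [d.sumY ψ hψ, T.eps]
  push_cast
  linear_combination h

/-- The exceptional characters vanish at elements without fixed points. -/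
theorem Y_apply (T : Two H d w) {ψ : IrrCharacter G} (hψ : ψ ∈ d.Y) {y : G} (hy : Rest p y) :
    (ψ : G → ℂ) y = 0 := by
  obtain ⟨θ, hθ, hin⟩ := H.exists_lin (isCharacter_of_isIrr ψ.2)
    (by rw [T.sumP_Y hψ]; exact Nat.cast_ne_zero.2 hp.out.ne_zero)
  have hall : ∀ ψ' ∈ d.Y, classInner (indFun (N P) (θ : N P → ℂ)) (ψ' : G → ℂ) ≠ 0 := by
    intro ψ' hψ'
    obtain ⟨k, hk, rfl⟩ := d.orbit ψ hψ ψ' hψ'
    rw [classInner_indFun _ _ (isClassFunction_of_isIrr (powIrr k hk ψ).2), classInner_conj_symm]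
    refine fun e => hin ?_
    rw [map_eq_zero] at e
    rw [← e]
    have hco : (Nat.card (N P)).Coprime k :=
      Nat.Coprime.coprime_dvd_left (Subgroup.card_subgroup_dvd_card _) hk.1.symm
    have hfix : ∀ h : N P, (θ : N P → ℂ) (h ^ k) = (θ : N P → ℂ) h := by
      intro h
      by_cases hP : (h : G) ∈ (P : Subgroup G)
      · rw [hθ.2 h hP, hθ.2 (h ^ k) (by rw [Subgroup.coe_pow]; exact pow_mem hP k)]
      · rw [show h ^ k = h from Subtype.ext (by
          rw [Subgroup.coe_pow]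
          exact pow_regular (p_dvd_card H.card_P) hk (H.regular_of_mem_N h.2 hP))]
    simp only [classInner, res]
    congr 1
    refine (Fintype.sum_equiv (powCoprime hco) _ _ fun h => ?_).symm
    show (ψ : G → ℂ) ((h : G) ^ k) * conj ((θ : N P → ℂ) h) =
      (ψ : G → ℂ) ((h ^ k : N P) : G) * conj ((θ : N P → ℂ) (h ^ k))
    rw [hfix, Subgroup.coe_pow]
  have heq := eq_sum_of_constituents (isCharacter_indFun _ (isCharacter_of_isIrr θ.2)) d.Y hall
    (by
      rw [H.charDegree_ind (isCharacter_of_isIrr θ.2) hθ.1,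
        Finset.sum_congr rfl (g := fun _ => d.D) (fun χ hχ => d.degY χ hχ), Finset.sum_const,
        d.cardY, smul_eq_mul, ← T.tD]
      rfl) y
  rw [indFun_eq_zero _ hy.2, Finset.sum_congr rfl (fun χ hχ => d.regY χ hχ ψ hψ y hy.1),
    Finset.sum_const, nsmul_eq_mul] at heq
  exact (mul_eq_zero.1 heq.symm).resolve_left (Nat.cast_ne_zero.2
    (Finset.card_pos.2 ⟨ψ, hψ⟩).ne')

theorem X_apply (_T : Two H d w) {χ : IrrCharacter G} (hχ : χ ∈ d.X) {y : G} (hy : Rest p y) :
    (χ : G → ℂ) y = 0 := by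
  obtain ⟨θ, -, hind⟩ := d.exists_lin_of_X H hχ
  rw [← hind]
  exact indFun_eq_zero _ hy.2

/-- Each element without fixed points is a product of `D` pairs of involutions. -/
theorem card_pairs (T : Two H d w) {c : G} (hc : c ∈ N P) (hcP : c ∉ (P : Subgroup G))
    (h2 : orderOf c = 2) {y : G} (hy : Rest p y) : (pairsOf c y).card = d.D := by
  have h := card_pairsOf c y
  rw [T.index_centralizer hc hcP h2, d.sum_univ H, Block.oneIrr_apply, Block.oneIrr_apply,
    Block.oneIrr_apply,
    Finset.sum_eq_zero (s := d.X) fun χ hχ => by rw [T.X_apply hχ hy.inv, mul_zero, zero_div],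
    Finset.sum_eq_zero (s := d.W) fun χ hχ => by
      rw [T.W_apply hχ hc hcP, mul_zero, zero_pow two_ne_zero, zero_mul, zero_div],
    Finset.sum_eq_zero (s := d.Y) fun χ hχ => by rw [T.Y_apply hχ hy.inv, mul_zero, zero_div],
    Finset.sum_congr rfl (g := fun χ => ((p * d.D : ℕ) : ℂ) ^ 2 / (p : ℂ) *
      ((d.dd H χ : ℂ) * (χ : G → ℂ) y⁻¹)) (fun χ hχ => ?_), ← Finset.mul_sum] at h
  · have hπ := T.fixCount_eq y⁻¹
    rw [hy.inv.2, Nat.cast_zero] at hπ
    rw [show ∑ χ ∈ d.Out, (d.dd H χ : ℂ) * (χ : G → ℂ) y⁻¹ = -1 by linear_combination -hπ,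
      H.card_G] at h
    have hp0 : (p : ℂ) ≠ 0 := Nat.cast_ne_zero.2 hp.out.ne_zero
    have htz : (d.t : ℂ) * (eN P : ℕ) = (p : ℂ) - 1 := by
      rw [← Nat.cast_mul, d.t_mul H, Nat.cast_sub hp.out.pos, Nat.cast_one]
    have htD : (d.t : ℂ) * d.D = ((1 + n * p : ℕ) : ℂ) := by exact_mod_cast T.tD
    have hne : (p : ℂ) * (eN P : ℕ) * ((1 + n * p : ℕ) : ℂ) ≠ 0 := by
      have := H.two_le_e
      exact mul_ne_zero (mul_ne_zero hp0 (Nat.cast_ne_zero.2 (by omega)))
        (Nat.cast_ne_zero.2 (by omega))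
    have key : (p : ℂ) * (eN P : ℕ) * ((1 + n * p : ℕ) : ℂ) * ((pairsOf c y).card : ℂ) =
        (p : ℂ) * (eN P : ℕ) * ((1 + n * p : ℕ) : ℂ) * (d.D : ℂ) := by
      push_cast at h htD ⊢
      have h' : (p : ℂ) * (eN P : ℕ) * (1 + (n : ℂ) * p) * ((pairsOf c y).card : ℂ) =
          (p : ℂ) * (d.D : ℂ) ^ 2 * ((p : ℂ) - 1) := by
        rw [h]; field_simp; ring
      linear_combination h' - (p : ℂ) * (d.D : ℂ) ^ 2 * htz +
        (p : ℂ) * (eN P : ℕ) * (d.D : ℂ) * htD
    exact_mod_cast mul_left_cancel₀ hne key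
  · rw [T.out_apply hχ hc hcP, apply_one_eq_charDegree (isCharacter_of_isIrr χ.2),
      (d.dd_spec H hχ).2.1]
    have hp0 : (p : ℂ) ≠ 0 := Nat.cast_ne_zero.2 hp.out.ne_zero
    have hd0 : (d.dd H χ : ℂ) ≠ 0 := Nat.cast_ne_zero.2 (d.dd_spec H hχ).1.ne'
    push_cast
    field_simp

/-- There are no involutions without fixed points. -/
theorem rest_not_involution (T : Two H d w) {y : G} (hy : Rest p y) : y * y ≠ 1 := by
  intro hyy
  obtain ⟨c, hc, hcP, h2⟩ := T.exists_involution
  have hcard := T.card_pairs hc hcP h2 hy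
  have hfacts : ∀ q ∈ pairsOf c y, IsConj q.1 c ∧ IsConj q.2 c ∧ q.1 * q.2 = y := fun q hq =>
    (Finset.mem_filter.1 hq).2
  have hsq : ∀ a, IsConj a c → a * a = 1 := fun a ha => by
    obtain ⟨g, hg⟩ := isConj_iff.1 ha.symm
    rw [← hg, conj_mul, sq_eq_one h2, mul_one, mul_inv_cancel]
  have hz : ∑ _q ∈ pairsOf c y, (1 : ZMod 2) = 0 := by
    refine Finset.sum_involution (fun q _ => (q.2, q.1)) (fun q _ => rfl) ?_ ?_ (fun q _ => rfl)
    · intro q hq _ e
      obtain ⟨ha, -, hab⟩ := hfacts q hq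
      rw [← show q.2 = q.1 from congrArg Prod.fst e] at ha
      rw [← show q.2 = q.1 from congrArg Prod.fst e, hsq _ ha] at hab
      exact hy.ne_one hab.symm
    · intro q hq
      obtain ⟨ha, hb, hab⟩ := hfacts q hq
      refine Finset.mem_filter.2 ⟨Finset.mem_univ _, hb, ha, ?_⟩
      have h := inv_eq_of_mul_eq_one_right hyy
      rw [← hab, mul_inv_rev, inv_eq_of_mul_eq_one_right (hsq _ ha),
        inv_eq_of_mul_eq_one_right (hsq _ hb)] at h
      exact h.trans hab
  rw [Finset.sum_const, hcard, nsmul_eq_mul, mul_one, ZMod.natCast_eq_zero_iff_even] at hz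
  exact Nat.not_even_iff_odd.2 T.odd_D hz

/-- All involutions are conjugate. -/
theorem isConj_involution (T : Two H d w) {c : G} (hc : c ∈ N P) (hcP : c ∉ (P : Subgroup G))
    (h2 : orderOf c = 2) {v : G} (hv : orderOf v = 2) : IsConj v c := by
  have hvreg : ¬ p ∣ orderOf v := by
    rw [hv]; intro h
    exact H.p_ne_two ((Nat.prime_dvd_prime_iff_eq hp.out Nat.prime_two).1 h)
  by_cases hfix : fixCount p v = 0
  · exact absurd (sq_eq_one hv) (T.rest_not_involution ⟨hvreg, hfix⟩)
  rw [fixCount_eq_zero_iff] at hfix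
  push Not at hfix
  obtain ⟨Q, hQ⟩ := hfix
  obtain ⟨g, rfl⟩ := MulAction.exists_smul_eq G P Q
  set v' := g⁻¹ * v * g with hv'
  have hv'N : v' ∈ N P := conj_mem_N hQ
  have hv'o : orderOf v' = 2 := by
    rw [hv', ← hv]
    simpa using (MulAut.conj g⁻¹).orderOf_eq v
  have hv'P : v' ∉ (P : Subgroup G) := fun h => by
    rw [H.orderOf_mem h (inv_facts hv'o).1] at hv'o
    exact H.p_ne_two hv'o
  have hmem : c⁻¹ * v' ∈ (P : Subgroup G) := by
    obtain ⟨x, hx, hx1, -, -⟩ := H.exists_gen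
    rw [(inv_facts h2).2, ← H.centralizer_eq hx hx1, Subgroup.mem_centralizer_singleton_iff]
    have e1 := H.involution_inverts hv'N hv'P (sq_eq_one hv'o) hx
    have e2 := H.involution_inverts hc hcP (sq_eq_one h2) (inv_mem hx)
    rw [inv_inv] at e2
    calc c * v' * x = c * (v' * x * v'⁻¹) * c⁻¹ * (c * v') := by group
      _ = x * (c * v') := by rw [e1, e2]
  obtain ⟨x, -, hx⟩ := H.coset_conj hc hcP hmem
  rw [mul_inv_cancel_left] at hx
  refine (isConj_iff.2 ⟨g⁻¹, by rw [inv_inv]⟩ : IsConj v v').trans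
    (isConj_iff.2 ⟨x, hx⟩).symm

/-- The pairs are the involutions inverting `y`. -/
theorem mem_pairs (T : Two H d w) {c : G} (hc : c ∈ N P) (hcP : c ∉ (P : Subgroup G))
    (h2 : orderOf c = 2) {y a b : G} :
    (a, b) ∈ pairsOf c y ↔ orderOf a = 2 ∧ orderOf b = 2 ∧ a * b = y := by
  have hiff : ∀ v, IsConj v c ↔ orderOf v = 2 := fun v => by
    refine ⟨fun h => ?_, fun h => T.isConj_involution hc hcP h2 h⟩
    obtain ⟨g, hg⟩ := isConj_iff.1 h
    rw [← h2, ← hg]
    exact ((MulAut.conj g).orderOf_eq v).symm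
  rw [pairsOf, Finset.mem_filter, hiff, hiff]
  exact and_iff_right (Finset.mem_univ _)

/-- Elements without fixed points have odd order. -/
theorem rest_odd (T : Two H d w) {y : G} (hy : Rest p y) : Odd (orderOf y) := by
  by_contra heven
  rw [Nat.not_odd_iff_even] at heven
  set z := y ^ (orderOf y / 2) with hz
  haveI : Fact (Nat.Prime 2) := ⟨Nat.prime_two⟩
  have hzo : orderOf z = 2 := orderOf_pow_orderOf_div (orderOf_pos y).ne' heven.two_dvd
  obtain ⟨c, hc, hcP, h2⟩ := T.exists_involution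
  obtain ⟨g, hg⟩ := isConj_iff.1 (T.isConj_involution hc hcP h2 hzo)
  set y' := g * y * g⁻¹ with hy'
  have hrest : Rest p y' := hy.conj g
  have hzc : y' ^ (orderOf y / 2) = c := by rw [hy', conj_pow]; exact hg
  have hcard := T.card_pairs hc hcP h2 hrest
  set M := Subgroup.centralizer ({c} : Set G) with hM
  have hsub : (pairsOf c y').image Prod.fst ⊆
      (Finset.univ.filter (· ∈ M)) \ (Finset.univ.filter (· ∈ Cc P c)) := by
    intro a ha
    obtain ⟨⟨a', b⟩, hab, rfl⟩ := Finset.mem_image.1 ha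
    obtain ⟨ha2, hb2, hprod⟩ := (T.mem_pairs hc hcP h2).1 hab
    have hinv : a' * y' * a'⁻¹ = y'⁻¹ := by
      rw [← hprod, mul_inv_rev, (inv_facts ha2).2, (inv_facts hb2).2]
      rw [← mul_assoc, sq_eq_one ha2, one_mul]
    have hac : a' * c = c * a' := by
      have : a' * c * a'⁻¹ = c⁻¹ := by rw [← hzc, ← conj_pow, hinv, inv_pow]
      rw [(inv_facts h2).2] at this
      exact mul_inv_eq_iff_eq_mul.1 this
    refine Finset.mem_sdiff.2 ⟨Finset.mem_filter.2 ⟨Finset.mem_univ _,
      Subgroup.mem_centralizer_singleton_iff.2 hac⟩, fun hCc => ?_⟩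
    have hac' : a' = c := H.involution_unique inf_le_right (H.Cc_inf hcP)
      (Finset.mem_filter.1 hCc).2 (Hyp.mem_Cc_self hc) (inv_facts ha2).1 (inv_facts h2).1
      (sq_eq_one ha2) (sq_eq_one h2)
    have hcy : c * y' = y' * c := by rw [← hzc, (Commute.self_pow y' _).eq]
    rw [hac', hcy, mul_inv_cancel_right] at hinv
    exact T.rest_not_involution hrest (mul_eq_one_iff_eq_inv.2 hinv)
  have hle := Finset.card_le_card hsub
  rw [Finset.card_image_of_injOn, hcard, Finset.card_sdiff_of_subset, ← Fintype.card_subtype,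
    ← Fintype.card_subtype, ← Nat.card_eq_fintype_card, ← Nat.card_eq_fintype_card,
    show Nat.card {v : G // v ∈ M} = d.t * eN P from T.card_centralizer hc hcP h2,
    show Nat.card {v : G // v ∈ Cc P c} = eN P from T.card_Cc hc hcP, d.t_mul H] at hle
  · have := T.De_one
    have := H.p_three
    have := T.odd_D.pos
    omega
  · intro v hv
    refine Finset.mem_filter.2 ⟨Finset.mem_univ _, ?_⟩
    rw [hM, Subgroup.mem_centralizer_singleton_iff]
    exact Subgroup.mem_centralizer_singleton_iff.1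
      (Subgroup.mem_inf.1 (Finset.mem_filter.1 hv).2).1
  · rintro ⟨a₁, b₁⟩ h1 ⟨a₂, b₂⟩ h1' e
    obtain ⟨-, -, e1⟩ := (T.mem_pairs hc hcP h2).1 h1
    obtain ⟨-, -, e2⟩ := (T.mem_pairs hc hcP h2).1 h1'
    change a₁ = a₂ at e
    subst e
    rw [mul_left_cancel (e1.trans e2.symm)]

/-- No involution centralises an element without fixed points. -/
theorem no_involution_commute (T : Two H d w) {y v : G} (hy : Rest p y) (hv : orderOf v = 2)
    (hcom : v * y = y * v) : False := by
  have hodd := T.rest_odd hy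
  have hco : (orderOf v).Coprime (orderOf y) := by
    rw [hv]; exact Nat.coprime_two_left.2 hodd
  have hord : orderOf (v * y) = 2 * orderOf y := by
    rw [(show Commute v y from hcom).orderOf_mul_eq_mul_orderOf_of_coprime hco, hv]
  have hrest : Rest p (v * y) := by
    refine ⟨?_, fixCount_eq_zero_iff.2 fun Q hQ => ?_⟩
    · rw [hord, hp.out.dvd_mul]
      rintro (h | h)
      · exact H.p_ne_two ((Nat.prime_dvd_prime_iff_eq hp.out Nat.prime_two).1 h)
      · exact hy.1 h
    · obtain ⟨j, hj⟩ := hodd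
      have hy2 : (v * y) ^ (2 * (j + 1)) = y := by
        rw [(show Commute v y from hcom).mul_pow, pow_mul v, pow_two, sq_eq_one hv, one_pow,
          one_mul, show 2 * (j + 1) = orderOf y + 1 by omega, pow_succ, pow_orderOf_eq_one, one_mul]
      have hfix : (v * y) ^ (2 * (j + 1)) ∈ MulAction.stabilizer G Q :=
        pow_mem (MulAction.mem_stabilizer_iff.2 hQ) _
      rw [hy2, MulAction.mem_stabilizer_iff] at hfix
      exact fixCount_eq_zero_iff.1 hy.2 Q hfix
  have h := T.rest_odd hrest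
  rw [hord] at h
  exact Nat.not_odd_iff_even.2 (even_two_mul _) h

/-- Nontrivial elements commuting with an element without fixed points have none. -/
theorem rest_of_commute (T : Two H d w) {y u : G} (hy : Rest p y) (hu1 : u ≠ 1)
    (hcom : u * y = y * u) : Rest p u := by
  have hureg : ¬ p ∣ orderOf u := by
    intro hd
    obtain ⟨g, hg, hg1⟩ := H.exists_conj_singular hd
    have hy' : g * y * g⁻¹ ∈ (P : Subgroup G) := by
      rw [← H.centralizer_eq hg hg1, Subgroup.mem_centralizer_singleton_iff]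
      calc g * y * g⁻¹ * (g * u * g⁻¹) = g * (y * u) * g⁻¹ := by group
        _ = g * (u * y) * g⁻¹ := by rw [hcom]
        _ = g * u * g⁻¹ * (g * y * g⁻¹) := by group
    exact (hy.conj g).1 (by
      rw [H.orderOf_mem hy' (hy.conj g).ne_one])
  refine ⟨hureg, fixCount_eq_zero_iff.2 fun Q hQ => ?_⟩
  obtain ⟨g, rfl⟩ := MulAction.exists_smul_eq G P Q
  set u' := g⁻¹ * u * g with hu'
  have hu'N : u' ∈ N P := conj_mem_N hQ
  have hu'1 : u' ≠ 1 := fun e => hu1 (by
    have : g * u' * g⁻¹ = u := by rw [hu']; group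
    rw [← this, e]; group)
  have hu'P : u' ∉ (P : Subgroup G) := by
    refine H.not_mem_of_regular ?_ hu'1
    have := Hyp.conj_regular (p := p) hureg g⁻¹
    rwa [inv_inv] at this
  set y' := g⁻¹ * y * g with hy'
  have hrest : Rest p y' := by
    have := hy.conj g⁻¹
    rwa [inv_inv] at this
  have hcom' : y' * u' = u' * y' := by
    calc y' * u' = g⁻¹ * (y * u) * g := by rw [hu', hy']; group
      _ = g⁻¹ * (u * y) * g := by rw [hcom]
      _ = u' * y' := by rw [hu', hy']; group
  have hnorm := T.normalizes_of_commute hu'N hu'P hcom'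
  haveI : Fact (Nat.Prime 2) := ⟨Nat.prime_two⟩
  obtain ⟨c₁, hc₁⟩ := exists_prime_orderOf_dvd_card' (G := Cc P u') 2
    (by rw [T.card_Cc hu'N hu'P]; exact T.even_e.two_dvd)
  have hc₁o : orderOf (c₁ : G) = 2 := by rw [Subgroup.orderOf_coe]; exact hc₁
  refine T.no_involution_commute hrest hc₁o ?_
  have he : y' * c₁ * y'⁻¹ = (c₁ : G) := H.involution_unique inf_le_right (H.Cc_inf hu'P)
    ((Subgroup.mem_normalizer_iff.1 hnorm _).1 c₁.2) c₁.2
    (fun e => (inv_facts hc₁o).1 (conj_eq_one_iff.1 e)) (inv_facts hc₁o).1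
    (by rw [conj_mul, sq_eq_one hc₁o, mul_one, mul_inv_cancel]) (sq_eq_one hc₁o)
  exact (mul_inv_eq_iff_eq_mul.1 he).symm

end Two

end Cfsg.Agent.Lib.Brauer43
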