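import Cfsg.Agent.Lib.Brauer43.Fix

/-!
# The permutation character in the second case
-/

set_option autoImplicit false
set_option linter.unusedSectionVars false
set_option linter.style.haveILetI false

namespace Cfsg.Agent.Lib.Brauer43

open Cfsg Cfsg.Agent.Lib Cfsg.Agent.Lib.Char Cfsg.Agent.Lib.DefectOne
open Cfsg.Agent.Lib.Char.UC (C N)
open scoped ComplexConjugate Classical

universe u

variable {p : ℕ} [hp : Fact p.Prime] {G : Type u} [Group G] [Fintype G] {P : Sylow p G} {n : ℕ}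

/-- The second case, with the number `w` of `P`-fixed points of an exceptional character. -/
structure Two (H : Hyp P n) (d : Data P) (w : ℕ) : Prop where
  eps : d.ε = -1
  w_pos : 0 < w
  tw : d.t * w = n + 1
  tD : d.t * d.D = 1 + n * p
  De : d.D + eN P = p * w
  cardW : d.W.card = d.X.card * n + w

namespace Data

/-- The characters outside the principal block. -/
noncomputable def Out (d : Data P) : Finset (IrrCharacter G) := Finset.univ \ (d.Z ∪ d.Y)

theorem mem_Out (d : Data P) {χ : IrrCharacter G} : χ ∈ d.Out ↔ χ ∉ d.Z ∧ χ ∉ d.Y := by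
  simp [Out]

theorem sum_univ {A : Type*} [AddCommMonoid A] (H : Hyp P n) (d : Data P)
    (f : IrrCharacter G → A) :
    ∑ χ : IrrCharacter G, f χ =
      f (Block.oneIrr G) + (∑ χ ∈ d.X, f χ + ∑ χ ∈ d.W, f χ) + ∑ χ ∈ d.Y, f χ +
        ∑ χ ∈ d.Out, f χ := by
  rw [← d.sum_Z H, ← Finset.sum_union d.disj, Out, add_comm,
    Finset.sum_sdiff (Finset.subset_univ _)]

/-- Outside the block the degree is `p` times the number of fixed points of `P`. -/
theorem exists_out_degree (H : Hyp P n) (d : Data P) (χ : IrrCharacter G) :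
    ∃ k : ℕ, χ ∈ d.Out → 0 < k ∧ charDegree (χ : G → ℂ) = p * k ∧
      sumP P (χ : G → ℂ) = (p : ℂ) * k := by
  by_cases hχ : χ ∈ d.Out
  · have hc := isCharacter_of_isIrr χ.2
    obtain ⟨k, hk⟩ := H.exists_sumP_eq hc
    obtain ⟨hZ, hY⟩ := d.mem_Out.1 hχ
    have h := H.sumP_const _ (d.outside χ hZ hY)
    rw [mul_zero, add_zero, apply_one_eq_charDegree hc, hk] at h
    have h' : charDegree (χ : G → ℂ) = p * k := by exact_mod_cast h.symm
    refine ⟨k, fun _ => ⟨Nat.pos_of_ne_zero fun e => ?_, h', hk⟩⟩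
    have := charDegree_pos χ.2
    rw [h', e] at this
    simp at this
  · exact ⟨0, fun h => absurd h hχ⟩

/-- The number of fixed points of `P` in a character outside the block. -/
noncomputable def dd (H : Hyp P n) (d : Data P) (χ : IrrCharacter G) : ℕ :=
  (d.exists_out_degree H χ).choose

theorem dd_spec (H : Hyp P n) (d : Data P) {χ : IrrCharacter G} (h : χ ∈ d.Out) :
    0 < d.dd H χ ∧ charDegree (χ : G → ℂ) = p * d.dd H χ ∧
      sumP P (χ : G → ℂ) = (p : ℂ) * d.dd H χ :=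
  (d.exists_out_degree H χ).choose_spec h

end Data

namespace Two

variable {d : Data P} {w : ℕ} {H : Hyp P n}

theorem tz (_T : Two H d w) : (d.t : ℤ) * (eN P : ℕ) = (p : ℤ) - 1 := by
  rw [← Nat.cast_mul, d.t_mul H, Nat.cast_sub hp.out.pos, Nat.cast_one]

/-- The squares of the fixed point numbers outside the block add up to `n`. -/
theorem sum_dd_sq (T : Two H d w) : ∑ χ ∈ d.Out, d.dd H χ ^ 2 = n := by
  have h := sum_charDegree_sq (G := G)
  rw [d.sum_univ H, show charDegree (Block.oneIrr G : G → ℂ) = 1 from charDegree_one,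
    Finset.sum_congr rfl (g := fun _ => (1 + n * p) ^ 2)
      (fun χ hχ => by rw [(d.mem_X H hχ).2.2.2]),
    Finset.sum_congr rfl (s₁ := d.W) (g := fun _ => (p - 1) ^ 2)
      (fun χ hχ => by rw [(d.mem_W H hχ).2.2.2]),
    Finset.sum_congr rfl (s₁ := d.Y) (g := fun _ => d.D ^ 2)
      (fun χ hχ => by rw [d.degY χ hχ]),
    Finset.sum_congr rfl (s₁ := d.Out) (g := fun χ => p ^ 2 * d.dd H χ ^ 2)
      (fun χ hχ => by rw [(d.dd_spec H hχ).2.1, mul_pow]),
    Finset.sum_const, Finset.sum_const, Finset.sum_const, ← Finset.mul_sum, H.card_G,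
    smul_eq_mul, smul_eq_mul, smul_eq_mul, d.cardY] at h
  change 1 ^ 2 + (_ + _) + d.t * _ + _ = _ at h
  set S := ∑ χ ∈ d.Out, d.dd H χ ^ 2 with hS
  have hz : (1 : ℤ) + ((d.X.card : ℤ) * (1 + n * p) ^ 2 + (d.W.card : ℤ) * ((p : ℤ) - 1) ^ 2) +
      (d.t : ℤ) * (d.D : ℤ) ^ 2 + (p : ℤ) ^ 2 * S = p * (eN P : ℕ) * (1 + n * p) := by
    have h' := congrArg (fun k : ℕ => (k : ℤ)) h
    simp only [Nat.cast_add, Nat.cast_mul, Nat.cast_pow, Nat.cast_one, one_pow,
      Nat.cast_sub hp.out.pos] at h'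
    exact h'
  have h1 : (d.t : ℤ) * d.D = 1 + n * p := by exact_mod_cast T.tD
  have h2 : (d.t : ℤ) * w = n + 1 := by exact_mod_cast T.tw
  have h5 : (d.W.card : ℤ) = d.X.card * n + w := by exact_mod_cast T.cardW
  have h4 : (d.X.card : ℤ) + d.W.card + 1 = (eN P : ℕ) := by exact_mod_cast d.card_X_add_W H
  have h3 := T.tz
  set e := ((eN P : ℕ) : ℤ)
  set t := (d.t : ℤ)
  set x := (d.X.card : ℤ)
  set W := (d.W.card : ℤ)
  have hT : t = (p : ℤ) - t * x * (n + 1) - n - 2 := by
    linear_combination t * h4 - t * h5 + h3 - h2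
  have key : t * ((p : ℤ) ^ 2 * S) = t * ((p : ℤ) ^ 2 * n) := by
    have e1 : t * ((p : ℤ) ^ 2 * S) = p * ((p : ℤ) - 1) * (1 + n * p) - t -
        (t * x) * (1 + n * p) ^ 2 - ((t * x) * n + (n + 1)) * ((p : ℤ) - 1) ^ 2 -
        (1 + n * p) ^ 2 := by
      linear_combination t * hz + ((p : ℤ) * (1 + n * p)) * h3 -
        t * ((p : ℤ) - 1) ^ 2 * h5 - ((p : ℤ) - 1) ^ 2 * h2 -
        (t * (d.D : ℤ) + (1 + n * p)) * h1
    rw [e1]
    linear_combination -(1 + (n : ℤ) * (p : ℤ) ^ 2) * hT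
  have ht0 : t ≠ 0 := by
    have := d.t_pos H
    simp only [t]; omega
  have hp0 : (p : ℤ) ^ 2 ≠ 0 := pow_ne_zero _ (Int.natCast_ne_zero.2 hp.out.ne_zero)
  exact_mod_cast mul_left_cancel₀ hp0 (mul_left_cancel₀ ht0 key)

/-- The constituents of the permutation character. -/
theorem exists_mult (T : Two H d w) : ∃ a : IrrCharacter G → ℕ,
    (∀ χ : IrrCharacter G, classInner (indFun (N P) fun _ => (1 : ℂ)) (χ : G → ℂ) = a χ) ∧
    a (Block.oneIrr G) = 1 ∧ (∀ χ ∈ d.X, a χ = 0) ∧ (∀ χ ∈ d.W, a χ = 0) ∧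
    (∀ χ ∈ d.Y, a χ = 0) ∧ ∀ χ ∈ d.Out, a χ = d.dd H χ := by
  have hπ : IsCharacter G (indFun (N P) fun _ => (1 : ℂ)) :=
    isCharacter_indFun _ (isCharacter_of_isIrr isIrrCharacter_one)
  choose a ha using fun χ : IrrCharacter G => classInner_natCast hπ (isCharacter_of_isIrr χ.2)
  have hone : a (Block.oneIrr G) = 1 := by
    have h := ha (Block.oneIrr G)
    rw [show ((Block.oneIrr G : IrrCharacter G) : G → ℂ) = fun _ => 1 from
      funext fun g => Block.oneIrr_apply g, H.classInner_pi_one] at h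
    exact_mod_cast h.symm
  have hres : ∀ χ : IrrCharacter G,
      classInner (res P (χ : G → ℂ)) (fun _ => (1 : ℂ)) = a χ := fun χ => by
    have h := ha χ
    rw [classInner_indFun _ _ (isClassFunction_of_isIrr χ.2), classInner_conj_symm] at h
    have h' := congrArg conj h
    rwa [Complex.conj_conj, map_natCast] at h'
  -- no more than the fixed points of `P`
  have hle : ∀ (χ : IrrCharacter G) (k : ℕ), sumP P (χ : G → ℂ) = (p : ℂ) * k → a χ ≤ k := by
    intro χ k hk
    obtain ⟨m, hm, h1, -⟩ := H.fixed_decomp (isCharacter_of_isIrr χ.2)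
    let one : IrrCharacter (N P) := ⟨fun _ => 1, isIrrCharacter_one⟩
    have h2 : m one = a χ := by
      have h := (hm one).symm.trans (hres χ)
      exact_mod_cast h
    have h3 : (∑ θ ∈ Finset.univ.filter IsLin, m θ) = k := by
      have := mul_left_cancel₀ (Nat.cast_ne_zero.2 hp.out.ne_zero) (h1.symm.trans hk)
      exact_mod_cast this
    rw [← h2, ← h3]
    exact Finset.single_le_sum (fun _ _ => Nat.zero_le _)
      (Finset.mem_filter.2 ⟨Finset.mem_univ _, rfl, fun _ _ => rfl⟩)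
  have hW : ∀ χ ∈ d.W, a χ = 0 := by
    intro χ hχ
    obtain ⟨hZ, -, hs, hdeg⟩ := d.mem_W H hχ
    refine Nat.le_zero.1 (hle χ 0 ?_)
    rw [H.sumP_const _ (d.valZ χ hZ), hs, apply_one_eq_charDegree (isCharacter_of_isIrr χ.2), hdeg,
      Nat.cast_sub hp.out.pos]
    push_cast; ring
  have hdegπ : charDegree (indFun (N P) fun _ => (1 : ℂ)) = 1 + n * p :=
    H.charDegree_ind (isCharacter_of_isIrr isIrrCharacter_one) rfl
  have hX : ∀ χ ∈ d.X, a χ = 0 := by
    intro χ hχ
    obtain ⟨-, hne, -, hdeg⟩ := d.mem_X H hχ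
    by_contra h0
    have h := sum_degree_le hπ {Block.oneIrr G, χ} (fun X hX => by
      rw [ha X, Nat.cast_ne_zero]
      rcases Finset.mem_insert.1 hX with rfl | hX
      · omega
      · rwa [Finset.mem_singleton.1 hX])
    rw [Finset.sum_pair hne.symm, hdegπ, hdeg,
      show charDegree (Block.oneIrr G : G → ℂ) = 1 from charDegree_one] at h
    omega
  have hdec : ∀ g, (fixCount p g : ℂ) = ∑ χ : IrrCharacter G, (a χ : ℂ) * (χ : G → ℂ) g :=
    fun g => by
      have h := congrFun (eq_sum_classInner_smul (isClassFunction_of_isCharacter hπ)) g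
      simp only [Finset.sum_apply, Pi.smul_apply, smul_eq_mul, ha] at h
      rw [← h, indFun_one_eq]
  -- the exceptional characters do not occur
  have hYsum : ∑ χ ∈ d.Y, a χ = 0 := by
    set S := (Finset.univ.filter (· ∈ (P : Subgroup G))).erase 1 with hS
    have hcard : (S.card : ℂ) = (p : ℂ) - 1 := by
      rw [hS, Finset.card_erase_of_mem (Finset.mem_filter.2 ⟨Finset.mem_univ _, one_mem _⟩),
        H.card_filter, Nat.cast_sub hp.out.pos, Nat.cast_one]
    have hval : ∀ x ∈ S, (∑ χ ∈ d.Y, (a χ : ℂ) * (χ : G → ℂ) x) = 0 := by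
      intro x hx
      have hxP := (Finset.mem_filter.1 (Finset.mem_of_mem_erase hx)).2
      have hx1 := Finset.ne_of_mem_erase hx
      have h := hdec x
      rw [H.fixCount_mem hxP hx1, d.sum_univ H, hone, Block.oneIrr_apply,
        Finset.sum_eq_zero (s := d.X) fun χ hχ => by rw [hX χ hχ, Nat.cast_zero, zero_mul],
        Finset.sum_eq_zero (s := d.W) fun χ hχ => by rw [hW χ hχ, Nat.cast_zero, zero_mul],
        Finset.sum_eq_zero (s := d.Out) fun χ hχ => by
          rw [d.outside χ (d.mem_Out.1 hχ).1 (d.mem_Out.1 hχ).2 x hxP hx1, mul_zero]] at h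
      push_cast at h
      linear_combination -h
    have h0 : ∑ x ∈ S, ∑ χ ∈ d.Y, (a χ : ℂ) * (χ : G → ℂ) x = 0 := Finset.sum_eq_zero hval
    rw [Finset.sum_comm, Finset.sum_congr rfl (g := fun χ => (a χ : ℂ) * ((eN P : ℕ) : ℂ))
      (fun χ hχ => ?_), ← Finset.sum_mul] at h0
    · have h1 := (mul_eq_zero.1 h0).resolve_right (Nat.cast_ne_zero.2 (by
        have := H.two_le_e; omega))
      exact_mod_cast h1
    · rw [← Finset.mul_sum]
      congr 1
      have h2 := H.sumP_split (χ : G → ℂ)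
      rw [d.sumY χ hχ, T.eps, apply_one_eq_charDegree (isCharacter_of_isIrr χ.2), d.degY χ hχ] at h2
      push_cast at h2
      linear_combination -h2
  have hY : ∀ χ ∈ d.Y, a χ = 0 := Finset.sum_eq_zero_iff.1 hYsum
  -- the degree
  have hdeg : ∑ χ ∈ d.Out, a χ * d.dd H χ = n := by
    have h := hdec 1
    rw [d.sum_univ H, hone, Block.oneIrr_apply,
      Finset.sum_eq_zero (s := d.X) fun χ hχ => by rw [hX χ hχ, Nat.cast_zero, zero_mul],
      Finset.sum_eq_zero (s := d.W) fun χ hχ => by rw [hW χ hχ, Nat.cast_zero, zero_mul],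
      Finset.sum_eq_zero (s := d.Y) fun χ hχ => by rw [hY χ hχ, Nat.cast_zero, zero_mul],
      Finset.sum_congr rfl (s₁ := d.Out) (g := fun χ => (p : ℂ) * ((a χ : ℂ) * d.dd H χ))
        (fun χ hχ => by
          rw [apply_one_eq_charDegree (isCharacter_of_isIrr χ.2), (d.dd_spec H hχ).2.1]
          push_cast; ring), ← Finset.mul_sum] at h
    have h1 : fixCount p (1 : G) = 1 + n * p := by
      rw [fixCount, ← H.card_syl]
      exact Nat.card_congr (Equiv.subtypeUnivEquiv fun Q => one_smul G Q)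
    rw [h1] at h
    have h2 : (p : ℂ) * ((∑ χ ∈ d.Out, a χ * d.dd H χ : ℕ) : ℂ) = (p : ℂ) * (n : ℂ) := by
      push_cast at h ⊢
      linear_combination -h
    exact_mod_cast mul_left_cancel₀ (Nat.cast_ne_zero.2 hp.out.ne_zero) h2
  refine ⟨a, ha, hone, hX, hW, hY, ?_⟩
  have hpt : ∀ χ ∈ d.Out, a χ * d.dd H χ ≤ d.dd H χ ^ 2 := fun χ hχ => by
    rw [pow_two]; exact Nat.mul_le_mul_right _ (hle χ _ (d.dd_spec H hχ).2.2)
  have heq := (Finset.sum_eq_sum_iff_of_le hpt).1 (hdeg.trans T.sum_dd_sq.symm)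
  intro χ hχ
  exact Nat.eq_of_mul_eq_mul_right (d.dd_spec H hχ).1 ((heq χ hχ).trans (pow_two _))

/-- The permutation character in terms of the characters outside the block. -/
theorem fixCount_eq (T : Two H d w) (g : G) :
    (fixCount p g : ℂ) = 1 + ∑ χ ∈ d.Out, (d.dd H χ : ℂ) * (χ : G → ℂ) g := by
  obtain ⟨a, ha, hone, hX, hW, hY, hO⟩ := T.exists_mult
  have hπ : IsCharacter G (indFun (N P) fun _ => (1 : ℂ)) :=
    isCharacter_indFun _ (isCharacter_of_isIrr isIrrCharacter_one)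
  have h := congrFun (eq_sum_classInner_smul (isClassFunction_of_isCharacter hπ)) g
  simp only [Finset.sum_apply, Pi.smul_apply, smul_eq_mul, ha] at h
  rw [← indFun_one_eq (P := P), h, d.sum_univ H, hone, Block.oneIrr_apply,
    Finset.sum_eq_zero (s := d.X) fun χ hχ => by rw [hX χ hχ, Nat.cast_zero, zero_mul],
    Finset.sum_eq_zero (s := d.W) fun χ hχ => by rw [hW χ hχ, Nat.cast_zero, zero_mul],
    Finset.sum_eq_zero (s := d.Y) fun χ hχ => by rw [hY χ hχ, Nat.cast_zero, zero_mul],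
    Finset.sum_congr rfl fun χ hχ => by rw [hO χ hχ]]
  push_cast
  ring

/-- Outside the block the value off `P` in the normaliser is the number of fixed points. -/
theorem out_apply (T : Two H d w) {χ : IrrCharacter G} (hχ : χ ∈ d.Out) {c : G} (hc : c ∈ N P)
    (hcP : c ∉ (P : Subgroup G)) : (χ : G → ℂ) c = d.dd H χ := by
  obtain ⟨a, ha, -, -, -, -, hO⟩ := T.exists_mult
  refine H.eq_of_sumP (isCharacter_of_isIrr χ.2) (d.dd_spec H hχ).2.2 ?_ hc hcP
  have h := ha χ
  rw [classInner_indFun _ _ (isClassFunction_of_isIrr χ.2), classInner_conj_symm, hO χ hχ] at h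
  have h' := congrArg conj h
  rwa [Complex.conj_conj, map_natCast] at h'

/-- The characters of degree `p - 1` vanish off `P` in the normaliser. -/
theorem W_apply (_T : Two H d w) {χ : IrrCharacter G} (hχ : χ ∈ d.W) {c : G} (hc : c ∈ N P)
    (hcP : c ∉ (P : Subgroup G)) : (χ : G → ℂ) c = 0 := by
  obtain ⟨hZ, -, hs, hdeg⟩ := d.mem_W H hχ
  refine H.eq_zero_of_sumP (isCharacter_of_isIrr χ.2) ?_ hc hcP
  rw [H.sumP_const _ (d.valZ χ hZ), hs, apply_one_eq_charDegree (isCharacter_of_isIrr χ.2), hdeg,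
    Nat.cast_sub hp.out.pos]
  push_cast; ring

/-- An element of the normaliser outside `P` fixes `n + 1` Sylow subgroups. -/
theorem fixCount_N (T : Two H d w) {c : G} (hc : c ∈ N P) (hcP : c ∉ (P : Subgroup G)) :
    fixCount p c = n + 1 := by
  have h := T.fixCount_eq c
  rw [Finset.sum_congr rfl (g := fun χ => ((d.dd H χ ^ 2 : ℕ) : ℂ)) (fun χ hχ => by
    rw [T.out_apply hχ hc hcP]; push_cast; ring), ← Nat.cast_sum, T.sum_dd_sq] at h
  rw [add_comm n 1]
  exact_mod_cast h

end Two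

end Cfsg.Agent.Lib.Brauer43
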