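import Cfsg.Agent.Lib.Brauer43.Perm

/-!
# Two-point stabilisers in the second case
-/

set_option autoImplicit false
set_option linter.unusedSectionVars false
set_option linter.style.haveILetI false

namespace Cfsg.Agent.Lib.Brauer43

open Cfsg Cfsg.Agent.Lib Cfsg.Agent.Lib.Char Cfsg.Agent.Lib.DefectOne
open Cfsg.Agent.Lib.Char.UC (C N)
open scoped Classical

universe u

theorem mem_normalizer_of_conj {G : Type u} [Group G] [Finite G] {K : Subgroup G} {g : G}
    (h : ∀ u ∈ K, g * u * g⁻¹ ∈ K) : g ∈ Subgroup.normalizer (K : Set G) := by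
  let f : ↥K → ↥K := fun u => ⟨g * (u : G) * g⁻¹, h u u.2⟩
  have hf : Function.Injective f := fun a b e =>
    Subtype.ext (mul_left_cancel (mul_right_cancel (congrArg Subtype.val e)))
  refine Subgroup.mem_normalizer_iff.2 fun u => ⟨h u, fun hu => ?_⟩
  obtain ⟨v, hv⟩ := (Finite.injective_iff_surjective.1 hf) ⟨_, hu⟩
  have e : g * (v : G) * g⁻¹ = g * u * g⁻¹ := congrArg Subtype.val hv
  rw [← mul_left_cancel (mul_right_cancel e)]
  exact v.2

variable {p : ℕ} [hp : Fact p.Prime] {G : Type u} [Group G] [Fintype G] {P : Sylow p G} {n : ℕ}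

theorem mem_N_iff {g : G} : g ∈ N P ↔ g • P = P :=
  (Sylow.smul_eq_iff_mem_normalizer (P := P)).symm

/-- Conjugating back from a fixed Sylow subgroup. -/
theorem conj_mem_N {u g : G} (h : u • (g • P) = g • P) : g⁻¹ * u * g ∈ N P := fixed_iff.1 h

namespace Hyp

theorem not_mem_of_regular (H : Hyp P n) {u : G} (hu : ¬ p ∣ orderOf u) (hu1 : u ≠ 1) :
    u ∉ (P : Subgroup G) := fun h => hu (by rw [H.orderOf_mem h hu1])

theorem conj_regular {u : G} (hu : ¬ p ∣ orderOf u) (g : G) :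
    ¬ p ∣ orderOf (g * u * g⁻¹) := by
  rwa [show orderOf (g * u * g⁻¹) = orderOf u by simpa using (MulAut.conj g).orderOf_eq u]

end Hyp

namespace Two

variable {d : Data P} {w : ℕ} {H : Hyp P n}

/-- The stabiliser of `P` and `Q`. -/
noncomputable def pairStab (P Q : Sylow p G) : Subgroup G :=
  N P ⊓ Subgroup.normalizer ((Q : Subgroup G) : Set G)

theorem mem_pairStab {Q : Sylow p G} {g : G} :
    g ∈ pairStab P Q ↔ g ∈ N P ∧ g • Q = Q := by
  rw [pairStab, Subgroup.mem_inf]
  exact and_congr_right fun _ => (Sylow.smul_eq_iff_mem_normalizer (P := Q)).symm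

theorem pairStab_inf (H : Hyp P n) {Q : Sylow p G} (hQ : Q ≠ P) :
    pairStab P Q ⊓ (P : Subgroup G) = ⊥ := by
  rw [eq_bot_iff]
  intro x hx
  obtain ⟨hx1, hx2⟩ := Subgroup.mem_inf.1 hx
  rw [Subgroup.mem_bot]
  by_contra hne
  exact hQ (H.eq_of_smul hx2 hne (mem_pairStab.1 hx1).2)

/-- All two-point stabilisers have order `e`. -/
theorem card_pairStab (T : Two H d w) {Q : Sylow p G} (hQ : Q ≠ P) :
    Nat.card (pairStab P Q) = eN P := by
  set S : Finset G := Finset.univ.filter fun c => c ∈ N P ∧ c ∉ (P : Subgroup G) with hS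
  set TT : Finset (Sylow p G) := Finset.univ.erase P with hTT
  have hScard : S.card = p * eN P - p := by
    have : S = (Finset.univ.filter fun c => c ∈ N P) \
        (Finset.univ.filter fun c => c ∈ (P : Subgroup G)) := by
      ext c; simp [hS]
    rw [this, Finset.card_sdiff_of_subset fun c hc =>
      Finset.mem_filter.2 ⟨Finset.mem_univ _, H.P_le_N (Finset.mem_filter.1 hc).2⟩,
      ← Fintype.card_subtype, ← Fintype.card_subtype, ← Nat.card_eq_fintype_card,
      ← Nat.card_eq_fintype_card]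
    exact congrArg₂ (· - ·) H.card_N H.card_P
  have hTcard : TT.card = n * p := by
    rw [hTT, Finset.card_erase_of_mem (Finset.mem_univ _), Finset.card_univ,
      ← Nat.card_eq_fintype_card, H.card_syl, Nat.add_sub_cancel_left]
  have hfix : ∀ c ∈ S, (TT.filter fun R => c • R = R).card = n := by
    intro c hc
    obtain ⟨hcN, hcP⟩ := (Finset.mem_filter.1 hc).2
    have h := T.fixCount_N hcN hcP
    rw [fixCount, Nat.card_eq_fintype_card, Fintype.card_subtype] at h
    have hmem : P ∈ Finset.univ.filter (fun R : Sylow p G => c • R = R) :=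
      Finset.mem_filter.2 ⟨Finset.mem_univ _, mem_N_iff.1 hcN⟩
    rw [hTT, Finset.filter_erase, Finset.card_erase_of_mem hmem, h, Nat.add_sub_cancel]
  have hle : ∀ R ∈ TT, (S.filter fun c => c • R = R).card + 1 ≤ Nat.card (pairStab P R) := by
    intro R hR
    have hsub : insert 1 (S.filter fun c => c • R = R) ⊆
        Finset.univ.filter fun c => c ∈ pairStab P R := by
      intro c hc
      rcases Finset.mem_insert.1 hc with rfl | hc
      · exact Finset.mem_filter.2 ⟨Finset.mem_univ _, one_mem _⟩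
      · obtain ⟨hcS, hcR⟩ := Finset.mem_filter.1 hc
        exact Finset.mem_filter.2 ⟨Finset.mem_univ _,
          mem_pairStab.2 ⟨(Finset.mem_filter.1 hcS).2.1, hcR⟩⟩
    have h1 : (1 : G) ∉ S.filter fun c => c • R = R := fun h =>
      (Finset.mem_filter.1 (Finset.mem_filter.1 h).1).2.2 (one_mem _)
    have h := Finset.card_le_card hsub
    rw [Finset.card_insert_of_notMem h1, ← Fintype.card_subtype, ← Nat.card_eq_fintype_card] at h
    exact h
  have hdouble : ∑ R ∈ TT, (S.filter fun c => c • R = R).card = (p * eN P - p) * n := by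
    rw [← hScard, ← smul_eq_mul, ← Finset.sum_const, ← Finset.sum_congr rfl hfix]
    simp only [Finset.card_filter]
    exact Finset.sum_comm
  have hsum : ∑ R ∈ TT, Nat.card (pairStab P R) = ∑ _R ∈ TT, eN P := by
    refine le_antisymm (Finset.sum_le_sum fun R hR =>
      (H.le_e inf_le_left (pairStab_inf H (Finset.ne_of_mem_erase hR))).1) ?_
    refine le_trans (le_of_eq ?_) (Finset.sum_le_sum hle)
    rw [Finset.sum_add_distrib, hdouble, Finset.sum_const, Finset.sum_const, hTcard, smul_eq_mul,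
      smul_eq_mul, mul_one, Nat.sub_mul]
    have : p * n ≤ p * eN P * n := Nat.mul_le_mul_right n
      (Nat.le_mul_of_pos_right p (by have := H.two_le_e; omega))
    rw [show n * p * eN P = p * eN P * n by ring, show n * p = p * n by ring]
    omega
  exact (Finset.sum_eq_sum_iff_of_le fun R hR =>
    (H.le_e inf_le_left (pairStab_inf H (Finset.ne_of_mem_erase hR))).1).1 hsum Q
      (Finset.mem_erase.2 ⟨hQ, Finset.mem_univ _⟩)

theorem exists_fix_ne (T : Two H d w) {c : G} (hc : c ∈ N P) (hcP : c ∉ (P : Subgroup G)) :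
    ∃ Q : Sylow p G, Q ≠ P ∧ c • Q = Q := by
  have h := T.fixCount_N hc hcP
  have : 1 < Nat.card {Q : Sylow p G // c • Q = Q} := by
    have := H.one_le_n
    rw [fixCount] at h
    omega
  rw [Finite.one_lt_card_iff_nontrivial] at this
  obtain ⟨⟨Q, hQ⟩, hne⟩ := exists_ne (⟨P, mem_N_iff.1 hc⟩ : {Q : Sylow p G // c • Q = Q})
  exact ⟨Q, fun e => hne (Subtype.ext e), hQ⟩

theorem pairStab_eq (T : Two H d w) {c : G} (hc : c ∈ N P) (hcP : c ∉ (P : Subgroup G))
    {Q : Sylow p G} (hQ : Q ≠ P) (hcQ : c • Q = Q) : pairStab P Q = Cc P c :=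
  Subgroup.eq_of_le_of_card_ge
    (H.le_Cc inf_le_left (pairStab_inf H hQ) (mem_pairStab.2 ⟨hc, hcQ⟩))
    (by rw [T.card_pairStab hQ]; exact H.card_Cc_le hcP)

/-- The centraliser in the normaliser has order `e`. -/
theorem card_Cc (T : Two H d w) {c : G} (hc : c ∈ N P) (hcP : c ∉ (P : Subgroup G)) :
    Nat.card (Cc P c) = eN P := by
  obtain ⟨Q, hQ, hcQ⟩ := T.exists_fix_ne hc hcP
  rw [← T.pairStab_eq hc hcP hQ hcQ, T.card_pairStab hQ]

theorem fix_of_mem (T : Two H d w) {c : G} (hc : c ∈ N P) (hcP : c ∉ (P : Subgroup G)) {u : G}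
    (hu : u ∈ Cc P c) {Q : Sylow p G} (hcQ : c • Q = Q) : u • Q = Q := by
  by_cases hQ : Q = P
  · subst hQ; exact mem_N_iff.1 (Subgroup.mem_inf.1 hu).2
  · rw [← T.pairStab_eq hc hcP hQ hcQ] at hu
    exact (mem_pairStab.1 hu).2

theorem not_mem_P_of_Cc {c u : G} (H : Hyp P n) (hcP : c ∉ (P : Subgroup G)) (hu : u ∈ Cc P c)
    (hu1 : u ≠ 1) : u ∉ (P : Subgroup G) := fun h => hu1 (by
  have h' : u ∈ Cc P c ⊓ (P : Subgroup G) := Subgroup.mem_inf.2 ⟨hu, h⟩
  rwa [H.Cc_inf hcP, Subgroup.mem_bot] at h')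

theorem Cc_eq (T : Two H d w) {c : G} (hc : c ∈ N P) (hcP : c ∉ (P : Subgroup G)) {u : G}
    (hu : u ∈ Cc P c) (hu1 : u ≠ 1) : Cc P u = Cc P c := by
  have huP := not_mem_P_of_Cc H hcP hu hu1
  have huN := (Subgroup.mem_inf.1 hu).2
  refine (Subgroup.eq_of_le_of_card_ge (H.le_Cc inf_le_right (H.Cc_inf hcP) hu) ?_).symm
  exact le_of_eq ((T.card_Cc huN huP).trans (T.card_Cc hc hcP).symm)

theorem isCyclic_Cc (H : Hyp P n) {c : G} (hcP : c ∉ (P : Subgroup G)) : IsCyclic (Cc P c) :=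
  H.isCyclic_of_inf inf_le_right (H.Cc_inf hcP)

/-- Elements commuting with `c` normalise its stabiliser. -/
theorem normalizes_of_commute (T : Two H d w) {c : G} (hc : c ∈ N P)
    (hcP : c ∉ (P : Subgroup G)) {g : G} (hg : g * c = c * g) :
    g ∈ Subgroup.normalizer (Cc P c : Set G) := by
  refine mem_normalizer_of_conj fun v hv => ?_
  have hfix : ∀ R : Sylow p G, c • R = R → (g * v * g⁻¹) • R = R := by
    intro R hR
    have h1 : c • (g⁻¹ • R) = g⁻¹ • R := by
      have hg' : c * g⁻¹ = g⁻¹ * c := (show Commute c g from hg.symm).inv_right.eq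
      rw [← mul_smul, hg', mul_smul, hR]
    rw [mul_smul, mul_smul, T.fix_of_mem hc hcP hv h1, smul_inv_smul]
  obtain ⟨Q, hQ, hcQ⟩ := T.exists_fix_ne hc hcP
  rw [← T.pairStab_eq hc hcP hQ hcQ, mem_pairStab, mem_N_iff]
  exact ⟨hfix P (mem_N_iff.1 hc), hfix Q hcQ⟩

/-- The normaliser of a stabiliser is transitive on its fixed points. -/
theorem exists_mem_normalizer (T : Two H d w) {c : G} (hc : c ∈ N P)
    (hcP : c ∉ (P : Subgroup G)) {R : Sylow p G} (hR : c • R = R) :
    ∃ m ∈ Subgroup.normalizer (Cc P c : Set G), m • P = R := by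
  obtain ⟨g, rfl⟩ := MulAction.exists_smul_eq G P R
  have hc1 : c ≠ 1 := fun e => hcP (e ▸ one_mem _)
  have hcreg := H.regular_of_mem_N hc hcP
  set c' := g⁻¹ * c * g with hc'
  have hc'N : c' ∈ N P := conj_mem_N hR
  have hc'1 : c' ≠ 1 := fun e => hc1 (by
    have : g * c' * g⁻¹ = c := by rw [hc']; group
    rw [← this, e]; group)
  have hc'P : c' ∉ (P : Subgroup G) := by
    refine H.not_mem_of_regular ?_ hc'1
    have := Hyp.conj_regular (p := p) hcreg g⁻¹
    rwa [inv_inv] at this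
  -- the image of the stabiliser
  set K := (Cc P c).map (MulAut.conj g⁻¹).toMonoidHom with hKdef
  have hmemK : ∀ k ∈ K, ∃ u ∈ Cc P c, k = g⁻¹ * u * g := fun k hk => by
    obtain ⟨u, hu, rfl⟩ := Subgroup.mem_map.1 hk
    exact ⟨u, hu, by simp [MulAut.conj_apply]⟩
  have hKN : K ≤ N P := fun k hk => by
    obtain ⟨u, hu, rfl⟩ := hmemK k hk
    exact conj_mem_N (T.fix_of_mem hc hcP hu hR)
  have hKP : K ⊓ (P : Subgroup G) = ⊥ := by
    rw [eq_bot_iff]
    intro k hk
    obtain ⟨hkK, hkP⟩ := Subgroup.mem_inf.1 hk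
    obtain ⟨u, hu, rfl⟩ := hmemK k hkK
    rw [Subgroup.mem_bot]
    by_contra hk1
    have hu1 : u ≠ 1 := fun e => hk1 (by rw [e]; group)
    have hureg := H.regular_of_mem_N (Subgroup.mem_inf.1 hu).2 (not_mem_P_of_Cc H hcP hu hu1)
    have := Hyp.conj_regular (p := p) hureg g⁻¹
    rw [inv_inv] at this
    exact H.not_mem_of_regular this hk1 hkP
  have hcK : c' ∈ K :=
    Subgroup.mem_map.2 ⟨c, Hyp.mem_Cc_self hc, by simp [hc', MulAut.conj_apply]⟩
  have hKc : K = Cc P c' := by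
    refine Subgroup.eq_of_le_of_card_ge (H.le_Cc hKN hKP hcK) ?_
    rw [hKdef, Subgroup.card_map_of_injective (MulEquiv.injective _), T.card_Cc hc'N hc'P,
      T.card_Cc hc hcP]
  -- the complement meets the coset of `c`
  obtain ⟨k, hk, hky⟩ := (H.le_e hKN hKP).2 (by rw [hKc]; exact T.card_Cc hc'N hc'P) c hc
  have hkP : k ∉ (P : Subgroup G) := fun h => hcP (by
    have := mul_mem h hky
    rwa [mul_inv_cancel_left] at this)
  have hkN := hKN hk
  obtain ⟨x, hx, hxk⟩ := H.coset_conj hkN hkP hky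
  rw [mul_inv_cancel_left] at hxk
  have hk1 : k ≠ 1 := fun e => hkP (e ▸ one_mem _)
  have hxN := H.P_le_N hx
  refine ⟨g * x⁻¹, mem_normalizer_of_conj fun u hu => ?_, ?_⟩
  · -- `x⁻¹ u x` lies in `K`
    have h1 : x⁻¹ * u * x ∈ K := by
      rw [hKc, ← T.Cc_eq hc'N hc'P (hKc ▸ hk) hk1]
      refine Subgroup.mem_inf.2 ⟨Subgroup.mem_centralizer_singleton_iff.2 ?_, ?_⟩
      · have hcom : u * c = c * u :=
          Subgroup.mem_centralizer_singleton_iff.1 (Subgroup.mem_inf.1 hu).1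
        have hk' : k = x⁻¹ * c * x := by rw [← hxk]; group
        rw [hk']
        calc x⁻¹ * u * x * (x⁻¹ * c * x) = x⁻¹ * (u * c) * x := by group
          _ = x⁻¹ * (c * u) * x := by rw [hcom]
          _ = x⁻¹ * c * x * (x⁻¹ * u * x) := by group
      · exact mul_mem (mul_mem (inv_mem hxN) (Subgroup.mem_inf.1 hu).2) hxN
    obtain ⟨v, hv, e⟩ := hmemK _ h1
    have : g * x⁻¹ * u * (g * x⁻¹)⁻¹ = v := by
      calc g * x⁻¹ * u * (g * x⁻¹)⁻¹ = g * (x⁻¹ * u * x) * g⁻¹ := by group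
        _ = v := by rw [e]; group
    rw [this]; exact hv
  · rw [mul_smul, mem_N_iff.1 (inv_mem hxN)]

theorem normalizer_inf (T : Two H d w) {c : G} (hc : c ∈ N P) (hcP : c ∉ (P : Subgroup G))
    {m : G} (hm : m ∈ Subgroup.normalizer (Cc P c : Set G)) (hmN : m ∈ N P) : m ∈ Cc P c := by
  have h1 : m * c * m⁻¹ * c⁻¹ ∈ Cc P c ⊓ (P : Subgroup G) :=
    Subgroup.mem_inf.2 ⟨mul_mem ((Subgroup.mem_normalizer_iff.1 hm c).1 (Hyp.mem_Cc_self hc))
      (inv_mem (Hyp.mem_Cc_self hc)), H.commutator_mem hmN hc⟩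
  rw [H.Cc_inf hcP, Subgroup.mem_bot] at h1
  refine Subgroup.mem_inf.2 ⟨Subgroup.mem_centralizer_singleton_iff.2 ?_, hmN⟩
  calc m * c = m * c * m⁻¹ * c⁻¹ * (c * m) := by group
    _ = c * m := by rw [h1, one_mul]

/-- The normaliser of a stabiliser fixes its fixed point set. -/
theorem smul_fix (T : Two H d w) {c : G} (hc : c ∈ N P) (hcP : c ∉ (P : Subgroup G)) {m : G}
    (hm : m ∈ Subgroup.normalizer (Cc P c : Set G)) {R : Sylow p G} (hR : c • R = R) :
    c • (m • R) = m • R := by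
  have hu : m⁻¹ * c * m ∈ Cc P c := by
    have h := (Subgroup.mem_normalizer_iff.1 (inv_mem hm) c).1 (Hyp.mem_Cc_self hc)
    rwa [inv_inv] at h
  have h := T.fix_of_mem hc hcP hu hR
  rw [mul_smul, mul_smul, inv_smul_eq_iff] at h
  exact h

/-- The order of the normaliser of a stabiliser. -/
theorem card_normalizer (T : Two H d w) {c : G} (hc : c ∈ N P) (hcP : c ∉ (P : Subgroup G)) :
    Nat.card (Subgroup.normalizer (Cc P c : Set G)) = (n + 1) * eN P := by
  set M := Subgroup.normalizer (Cc P c : Set G) with hM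
  have hMcard : Nat.card M = (Finset.univ.filter (· ∈ M)).card := by
    rw [← Fintype.card_subtype, ← Nat.card_eq_fintype_card]
  have hF : (Finset.univ.filter fun R : Sylow p G => c • R = R).card = n + 1 := by
    rw [← Fintype.card_subtype, ← Nat.card_eq_fintype_card]; exact T.fixCount_N hc hcP
  rw [hMcard, Finset.card_eq_sum_card_fiberwise (f := fun m : G => m • P)
    (t := Finset.univ.filter fun R : Sylow p G => c • R = R) (fun m hm => Finset.mem_filter.2
      ⟨Finset.mem_univ _, T.smul_fix hc hcP (Finset.mem_filter.1 hm).2 (mem_N_iff.1 hc)⟩),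
    Finset.sum_congr rfl (g := fun _ => eN P) (fun R hR => ?_), Finset.sum_const, hF, smul_eq_mul]
  obtain ⟨m₀, hm₀, rfl⟩ := T.exists_mem_normalizer hc hcP (Finset.mem_filter.1 hR).2
  have hcc : (Finset.univ.filter fun v : G => v ∈ Cc P c).card = eN P := by
    rw [← Fintype.card_subtype, ← Nat.card_eq_fintype_card]; exact T.card_Cc hc hcP
  rw [← hcc]
  refine Finset.card_bij (fun m _ => m₀⁻¹ * m) ?_ ?_ ?_
  · intro m hm
    obtain ⟨hmM, hmP⟩ := Finset.mem_filter.1 hm
    refine Finset.mem_filter.2 ⟨Finset.mem_univ _, T.normalizer_inf hc hcP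
      (mul_mem (inv_mem hm₀) (Finset.mem_filter.1 hmM).2) (mem_N_iff.2 ?_)⟩
    rw [mul_smul, hmP, inv_smul_smul]
  · exact fun a _ b _ e => mul_left_cancel e
  · intro v hv
    have hv' := (Finset.mem_filter.1 hv).2
    refine ⟨m₀ * v, Finset.mem_filter.2 ⟨Finset.mem_filter.2 ⟨Finset.mem_univ _,
      mul_mem hm₀ (Subgroup.le_normalizer hv')⟩, ?_⟩, inv_mul_cancel_left _ _⟩
    rw [mul_smul, mem_N_iff.1 (Subgroup.mem_inf.1 hv').2]

theorem exists_mem_N_not_P (H : Hyp P n) : ∃ c, c ∈ N P ∧ c ∉ (P : Subgroup G) := by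
  by_contra hc
  push Not at hc
  have := Subgroup.card_le_of_le (show N P ≤ (P : Subgroup G) from hc)
  rw [H.card_N, H.card_P] at this
  have h2 := H.two_le_e
  have h3 := Nat.mul_le_mul_left p h2
  have := hp.out.pos
  omega

/-- There is only one fixed point of `P` in an exceptional character. -/
theorem w_eq_one (T : Two H d w) : w = 1 := by
  obtain ⟨c, hc, hcP⟩ := exists_mem_N_not_P H
  have h1 : (n + 1) * eN P ∣ p * eN P * (1 + n * p) := by
    rw [← H.card_G, ← T.card_normalizer hc hcP]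
    exact Subgroup.card_subgroup_dvd_card _
  have he0 : 0 < eN P := by have := H.two_le_e; omega
  have h2 : n + 1 ∣ p * (1 + n * p) :=
    Nat.dvd_of_mul_dvd_mul_right he0 (by rw [show p * (1 + n * p) * eN P = p * eN P * (1 + n * p) by ring]; exact h1)
  rw [← T.tw, ← T.tD, show p * (d.t * d.D) = d.t * (p * d.D) by ring] at h2
  have h3 : w ∣ p * d.D := Nat.dvd_of_mul_dvd_mul_left (d.t_pos H) h2
  have hcop : Nat.Coprime w p := by
    refine ((hp.out.coprime_iff_not_dvd).2 fun hd => ?_).symm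
    have hwp := Nat.le_of_dvd T.w_pos hd
    have := d.card_X_add_W H
    rw [T.cardW] at this
    have := H.e_lt
    omega
  have h4 : w ∣ d.D := hcop.dvd_of_dvd_mul_left h3
  have h5 : w ∣ eN P := (Nat.dvd_add_right h4).1 (by rw [T.De]; exact dvd_mul_left w p)
  have h6 : eN P = w * (d.X.card * d.t + 1) + 1 := by
    have := d.card_X_add_W H
    rw [T.cardW] at this
    have h7 := congrArg (d.X.card * ·) T.tw
    linarith
  rw [h6, Nat.dvd_add_right (dvd_mul_right _ _), Nat.dvd_one] at h5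
  exact h5

end Two

end Cfsg.Agent.Lib.Brauer43
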